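import Cfsg.Agent.Lib.Gold1169.Local.Moved

/-!
A perfect subgroup which is, modulo a solvable subgroup, inside the centraliser of `A ∩ L` centralises
the component `L`.
-/

set_option autoImplicit false
set_option linter.style.haveILetI false
set_option linter.unusedSectionVars false

namespace Cfsg.Agent.Gold1169.Loc2

open Subgroup
open scoped commutatorElement

universe u

variable {X : Type u} [Group X]

/-- A perfect subgroup of a solvable subgroup is trivial. -/
theorem eq_bot_of_perfect {Y W : Subgroup X} (hY : ⁅Y, Y⁆ = Y) (hW : Group.IsSolvable ↥W) (h : Y ≤ W) :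
    Y = ⊥ := by
  haveI := Components.isSolvable_mono h
  rcases subsingleton_or_nontrivial ↥Y with hs | hn
  · exact (eq_bot_iff_forall _).2 fun y hy => congrArg Subtype.val (hs.elim ⟨y, hy⟩ 1)
  · refine absurd ?_ (Group.IsSolvable.commutator_lt_top_of_nontrivial ↥Y).ne
    refine map_injective Y.subtype_injective ?_
    rw [← MonoidHom.range_eq_map, range_subtype]
    exact (Subgroup.map_subtype_commutator Y).trans hY

/-- The image of `Y` in `N(L) ⧸ C(L)` is solvable if `Y` is, modulo `R`, inside the centraliser of `V`. -/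
theorem le_centralizer_of_split [Finite X] {L Y V R : Subgroup X} (hY : ⁅Y, Y⁆ = Y) (hVL : V ≤ L)
    (hsol : Group.IsSolvable ↥(L ⊓ centralizer (V : Set X))) (hR : Group.IsSolvable ↥R)
    (hRL : R ≤ normalizer (L : Set X)) (hYR : Y ≤ normalizer (R : Set X))
    (hYL : Y ≤ L ⊔ centralizer (L : Set X))
    (hsplit : ∀ y ∈ Y, ∃ c ∈ centralizer (V : Set X), c⁻¹ * y ∈ R) : Y ≤ centralizer (L : Set X) := by
  set N := normalizer (L : Set X) with hN
  have hCN : centralizer (L : Set X) ≤ N := centralizer_le_normalizer _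
  have hYN : Y ≤ N := hYL.trans (sup_le le_normalizer hCN)
  haveI hn : ((centralizer (L : Set X)).subgroupOf N).Normal :=
    (normal_subgroupOf_iff_le_normalizer hCN).2 (LELarge.normalizer_le_normalizer_centralizer L)
  let π := QuotientGroup.mk' ((centralizer (L : Set X)).subgroupOf N)
  let F : Subgroup X → Subgroup (↥N ⧸ (centralizer (L : Set X)).subgroupOf N) := fun H => (H.subgroupOf N).map π
  have hFsol : ∀ H : Subgroup X, Group.IsSolvable ↥H → Group.IsSolvable ↥(F H) := fun H hH => by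
    haveI : Group.IsSolvable ↥(H.subgroupOf N) := by
      haveI := hH
      exact Group.isSolvable_of_isSolvable_injective (f := (N.subtype.subgroupComap H)) fun a b hab =>
        Subtype.ext (Subtype.ext (congrArg Subtype.val hab :))
    exact Components.isSolvable_map π _
  have hFn : ∀ {H K : Subgroup X}, H ≤ normalizer (K : Set X) → F H ≤ normalizer (F K : Set _) := by
    intro H K h
    refine le_trans (map_mono ?_) (le_normalizer_map π)
    intro x hx
    rw [mem_normalizer_iff]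
    exact fun v => mem_normalizer_iff.1 (h hx) (v : X)
  set Dset := centralizer (V : Set X) ⊓ normalizer (R : Set X) ⊓ ((L ⊔ centralizer (L : Set X)) ⊔ R) with hDset
  -- the image of `L ⊔ C(L)`
  have hLC : ∀ v ∈ L ⊔ centralizer (L : Set X), ∃ l ∈ L, l⁻¹ * v ∈ centralizer (L : Set X) := by
    intro v hv
    obtain ⟨l, hl, c, hc, rfl⟩ := (SolvBasic.mem_sup_iff_of_le_normalizer hCN).1 hv
    exact ⟨l, hl, by rwa [inv_mul_cancel_left]⟩
  haveI hFLn : (F L).Normal := by
    refine ⟨fun v hv g => ?_⟩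
    obtain ⟨g', rfl⟩ := QuotientGroup.mk'_surjective _ g
    exact (mem_normalizer_iff.1 (hFn (H := N) le_rfl (mem_map_of_mem π (mem_subgroupOf.2 g'.2))) v).1 hv
  have hDL : F Dset ⊓ F L ≤ F (L ⊓ centralizer (V : Set X)) := by
    rintro _ ⟨⟨d, hd, rfl⟩, ⟨l, hl, hld⟩⟩
    have hz : l⁻¹ * d ∈ (centralizer (L : Set X)).subgroupOf N := QuotientGroup.eq.1 hld
    refine ⟨l, mem_subgroupOf.2 (mem_inf.2 ⟨hl, mem_centralizer_iff.2 fun v hv => ?_⟩), hld⟩
    have h1 := mem_centralizer_iff.1 (mem_inf.1 (mem_inf.1 (show (d : X) ∈ Dset from hd)).1).1 v hv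
    have h2 : v * ((l : X)⁻¹ * d) = ((l : X)⁻¹ * d) * v := mem_centralizer_iff.1 hz v (hVL hv)
    have e : (l : X) = d * ((l : X)⁻¹ * d)⁻¹ := by group
    rw [e]
    exact (Commute.mul_right (show Commute v (d : X) from h1) (Commute.inv_right (show Commute v _ from h2))).eq
  have hDsol : Group.IsSolvable ↥(F Dset) := by
    let σ := QuotientGroup.mk' (F L)
    haveI : Group.IsSolvable ↥(F R) := hFsol R hR
    haveI : Group.IsSolvable ↥((F R).map σ) := Components.isSolvable_map σ _
    have hle : (F Dset).map σ ≤ (F R).map σ := by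
      rintro _ ⟨_, ⟨d, hd, rfl⟩, rfl⟩
      have hdd := (mem_inf.1 (show (d : X) ∈ Dset from hd)).2
      obtain ⟨v, hv, r, hr, hvr⟩ := (SolvBasic.mem_sup_iff_of_le_normalizer
        (N := L ⊔ centralizer (L : Set X)) (H := R) (hRL.trans
          ((_root_.le_inf le_rfl (LELarge.normalizer_le_normalizer_centralizer L)).trans
            (normalizer_inf_normalizer_le_normalizer_sup _ _)))).1 hdd
      obtain ⟨l, hl, hlv⟩ := hLC v hv
      have hvN : v ∈ N := (sup_le le_normalizer hCN) hv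
      refine ⟨π ⟨r, hRL hr⟩, mem_map_of_mem π (mem_subgroupOf.2 hr), ?_⟩
      have hd' : d = ⟨v, hvN⟩ * ⟨r, hRL hr⟩ := Subtype.ext hvr
      have h1 : σ (π ⟨v, hvN⟩) = 1 := by
        refine (QuotientGroup.eq_one_iff _).2 ⟨⟨l, le_normalizer hl⟩, mem_subgroupOf.2 hl, QuotientGroup.eq.2 ?_⟩
        exact hlv
      rw [hd', map_mul, map_mul, h1, one_mul]
    haveI : Group.IsSolvable ↥((F Dset).map σ) := Components.isSolvable_mono hle
    haveI : Group.IsSolvable ↥(F (L ⊓ centralizer (V : Set X))) := hFsol _ hsol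
    haveI : Group.IsSolvable ↥(F Dset ⊓ F L) := Components.isSolvable_mono hDL
    refine Group.isSolvable_of_ker_le_range (Subgroup.inclusion (inf_le_left : F Dset ⊓ F L ≤ F Dset))
      (σ.subgroupMap (F Dset)) fun d hd => ⟨⟨d, mem_inf.2 ⟨d.2, ?_⟩⟩, rfl⟩
    exact (QuotientGroup.eq_one_iff _).1 (congrArg Subtype.val hd)
  haveI := hDsol
  haveI := hFsol R hR
  have hDR : F Dset ≤ normalizer (F R : Set _) := hFn (inf_le_left.trans inf_le_right)
  have hW : Group.IsSolvable ↥(F R ⊔ F Dset) := Components.isSolvable_sup _ _ hDR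
  have hFY : F Y ≤ F R ⊔ F Dset := by
    rintro _ ⟨y, hy, rfl⟩
    obtain ⟨c, hc, hcy⟩ := hsplit y hy
    have hcR : c ∈ normalizer (R : Set X) := by
      have := mul_mem (show (y : X) ∈ normalizer (R : Set X) from hYR hy) (inv_mem (Subgroup.le_normalizer hcy))
      rwa [show (y : X) * (c⁻¹ * y)⁻¹ = c by group] at this
    have hcS : c ∈ (L ⊔ centralizer (L : Set X)) ⊔ R := by
      have := mul_mem (mem_sup_left (hYL hy) : (y : X) ∈ (L ⊔ centralizer (L : Set X)) ⊔ R)
        (inv_mem (mem_sup_right hcy))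
      rwa [show (y : X) * (c⁻¹ * y)⁻¹ = c by group] at this
    have hcN : c ∈ N := (sup_le (sup_le le_normalizer hCN) hRL) hcS
    rw [show y = ⟨c, hcN⟩ * ⟨c⁻¹ * y, hRL hcy⟩ from Subtype.ext (show (y : X) = c * (c⁻¹ * y) by group), map_mul]
    exact mul_mem (mem_sup_right (mem_map_of_mem π (mem_subgroupOf.2 (mem_inf.2 ⟨mem_inf.2 ⟨hc, hcR⟩, hcS⟩))))
      (mem_sup_left (mem_map_of_mem π (mem_subgroupOf.2 hcy)))
  have hperf : ⁅F Y, F Y⁆ = F Y := by
    show ⁅(Y.subgroupOf N).map π, (Y.subgroupOf N).map π⁆ = (Y.subgroupOf N).map π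
    rw [← map_commutator]
    refine congrArg _ ?_
    refine map_injective N.subtype_injective ?_
    rw [map_commutator, map_subgroupOf_eq_of_le hYN, hY]
  intro y hy
  have h1 : π ⟨y, hYN hy⟩ ∈ (⊥ : Subgroup _) :=
    eq_bot_of_perfect hperf hW hFY ▸ mem_map_of_mem π (mem_subgroupOf.2 hy)
  exact (QuotientGroup.eq_one_iff (⟨y, hYN hy⟩ : ↥N)).1 (mem_bot.1 h1)

end Cfsg.Agent.Gold1169.Loc2
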