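import Cfsg.Agent.Lib.Gold1169.Local.Centraliser
import Cfsg.Agent.Lib.Gold1169.Local.Tools
import Cfsg.Agent.Lib.Gold1169.Blocks

/-!
Moved components at `B ≤ B'`: one centralised by `B'` appears at `B'`, and L-balance puts one at `B'`
into a single moved component at `B`.
-/

set_option autoImplicit false
set_option linter.style.haveILetI false
set_option linter.unusedSectionVars false

namespace Cfsg.Agent.Gold1169

open Subgroup Cfsg.Agent.Components
open Cfsg.Agent.Walter4 (cen cenS ocen cor XB pre CA mem_pre down cenS_le_of_le q_eq_one_of_down)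
open Cfsg.Agent.OddDown.CoreSep (q im mem_im)
open scoped commutatorElement

universe u

attribute [local instance] FittingCores.pPrimeCore_normal

variable {G : Type u} [Group G] [Finite G] {S : Sylow 2 G} {A : Subgroup G}

/-- The image in `C(B) ⧸ O(C(B))` of `C(B')` is the centraliser of that of `B'`. -/
theorem down_range {B B' : Subgroup G} (h : B ≤ B') (hB'2 : IsPGroup 2 B') (hB'H : B' ≤ cenS B) :
    centralizer (im (cenS B) B' : Set (XB B)) ≤ (down h).range := by
  haveI : Fact (Nat.Prime 2) := ⟨Nat.prime_two⟩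
  have hker : (Nat.card (q (cenS B)).ker).Coprime 2 := by
    rw [QuotientGroup.ker_mk']
    exact FittingCores.pPrimeCore_coprime 2
  refine (CoprimeQuotient.centralizer_map (q (cenS B)) (QuotientGroup.mk'_surjective _) hker
    (hB'2.comap_of_injective (cenS B).subtype (cenS B).subtype_injective)).le.trans ?_
  rintro _ ⟨y, hy, rfl⟩
  exact ⟨⟨y, mem_centralizer_iff.2 fun b hb =>
    congrArg Subtype.val (mem_centralizer_iff.1 hy ⟨b, hB'H hb⟩ hb)⟩, rfl⟩

/-- L-balance. -/
theorem lay_le_lay {B B' : Subgroup G} (h : B ≤ B') (hB'2 : IsPGroup 2 B') (hB'H : B' ≤ cenS B) :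
    Walter4.lay B' ≤ Walter4.lay B := by
  haveI : Fact (Nat.Prime 2) := ⟨Nat.prime_two⟩
  set R : Subgroup ↥(cenS B) := B'.subgroupOf (cenS B) with hR
  have hmem : ∀ x : ↥(cenS B), x ∈ centralizer (R : Set ↥(cenS B)) ↔ (x : G) ∈ cenS B' := fun x =>
    ⟨fun hx => mem_centralizer_iff.2 fun b hb =>
      congrArg Subtype.val (mem_centralizer_iff.1 hx ⟨b, hB'H hb⟩ hb),
    fun hx => mem_centralizer_iff.2 fun b hb => Subtype.ext (mem_centralizer_iff.1 hx (b : G) hb)⟩
  let e : ↥(cenS B') ≃* ↥(centralizer (R : Set ↥(cenS B))) :=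
    { toFun := fun x => ⟨⟨x, cenS_le_of_le h x.2⟩, (hmem _).2 x.2⟩
      invFun := fun x => ⟨((x : ↥(cenS B)) : G), (hmem _).1 x.2⟩
      left_inv := fun _ => rfl
      right_inv := fun _ => rfl
      map_mul' := fun _ _ => rfl }
  rintro _ ⟨y, hy, rfl⟩
  exact ⟨((e y : ↥(centralizer (R : Set ↥(cenS B)))) : ↥(cenS B)),
    LBalance.pLayer_centralizer_le_two
      (hB'2.comap_of_injective (cenS B).subtype (cenS B).subtype_injective)
      ⟨e y, Components.pLayer_map_equiv_le e ⟨y, hy, rfl⟩, rfl⟩, rfl⟩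

namespace Setup

variable (hS : Setup S A)
include hS

/-- A component centralised by `B'` appears at `B'`. -/
theorem lift_loc {B B' : Subgroup G} (hB : Loc A B) (hB' : Loc A B') (h : B ≤ B') {L : Subgroup (XB B)}
    (hM : Moved A B L) (hfix : B' ≤ pre B (centralizer (L : Set (XB B)))) :
    ∃ L' : Subgroup (XB B'), Moved A B' L' ∧ CA A B' L' = CA A B L ∧
      pre B L ≤ cor B ⊔ pre B' L' ∧ pre B' L' ≤ cor B' ⊔ pre B L := by
  haveI : Fact (Nat.Prime 2) := ⟨Nat.prime_two⟩
  obtain ⟨T, hT⟩ := hS.exists_cl hB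
  obtain ⟨z, hz, hzC⟩ := hT.exists_mem_noncentral hM.1 (hS.moved_iff.1 hM.2)
  obtain ⟨⟨⟨a, haH⟩, ha, rfl⟩, hzL⟩ := mem_inf.1 hz
  have hB'H : B' ≤ cenS B := hfix.trans Walter4.pre_le
  have hLr : L ≤ (down h).range := by
    refine le_trans ?_ (down_range h hB'.1 hB'H)
    rw [le_centralizer_iff]
    rintro _ ⟨⟨b, hbH⟩, hb, rfl⟩
    exact (mem_pre.1 (hfix hb)).2
  set L₀ := L.comap (down h) with hL₀
  set K := L₀.map (q (cenS B')) with hK
  have haH' : a ∈ cenS B' := hS.le_cenS_loc hB' ha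
  have haK : q (cenS B') ⟨a, haH'⟩ ∈ K := mem_map_of_mem _ hzL
  have ha1 : a ≠ 1 := fun e => hzC (by
    subst e
    convert one_mem (centralizer (L : Set (XB B)))
    exact map_one (q (cenS B)))
  haveI : Nontrivial K := ⟨⟨_, haK⟩, 1, fun e1 =>
    ha1 (hS.eq_one_of_q hB' ha (congrArg Subtype.val e1))⟩
  let f : ↥L₀ →* ↥L := ((down h).comp L₀.subtype).codRestrict L fun y => y.2
  have hf : Function.Surjective f := fun l => by
    obtain ⟨y, hy⟩ := hLr l.2
    exact ⟨⟨y, show down h y ∈ L from hy ▸ l.2⟩, Subtype.ext hy⟩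
  let g : ↥L₀ →* ↥K := ((q (cenS B')).comp L₀.subtype).codRestrict K fun y => mem_map_of_mem _ y.2
  have hg : Function.Surjective g := by
    rintro ⟨-, y, hy, rfl⟩
    exact ⟨⟨y, hy⟩, Subtype.ext rfl⟩
  have hfg : f.ker ≤ g.ker := fun y hy =>
    Subtype.ext (q_eq_one_of_down h (congrArg Subtype.val hy))
  let e := MonoidHom.liftOfRightInverse f (Function.surjInv hf) (Function.rightInverse_surjInv hf) ⟨g, hfg⟩
  have he : Function.Surjective e := fun k => by
    obtain ⟨y, rfl⟩ := hg k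
    exact ⟨f y, MonoidHom.liftOfRightInverse_comp_apply f _ _ ⟨g, hfg⟩ y⟩
  have hKc : Cfsg.IsComponent K :=
    ⟨(hM.1.1.comap (down h)).map (QuotientGroup.mk'_surjective _), quasisimple_of_surjective hM.1.2 e he⟩
  -- the image of the kernel is central in `L`
  have hker : ∀ y : ↥(cenS B'), down h y ∈ L → q (cenS B') y = 1 →
      down h y ∈ L ⊓ centralizer (L : Set (XB B)) := by
    intro y hy hy1
    set N := L ⊓ (Cfsg.pPrimeCore 2 ↥(cenS B')).map (down h) with hN
    haveI : (N.subgroupOf L).Normal := by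
      rw [normal_subgroupOf_iff_le_normalizer inf_le_left]
      refine (_root_.le_inf le_normalizer (hLr.trans ?_)).trans inf_normalizer_le_normalizer_inf
      rw [MonoidHom.range_eq_map]
      exact (map_mono le_normalizer_of_normal).trans (le_normalizer_map _)
    rcases quasisimple_normal hM.1.2 (N.subgroupOf L) with hN' | hN'
    · exfalso
      have hmem : q (cenS B) ⟨a, haH⟩ ∈ (Cfsg.pPrimeCore 2 ↥(cenS B')).map (down h) :=
        (subgroupOf_eq_top.1 hN' hzL).2
      refine ha1 (hS.eq_one_of_q hB ha (ClosedAbelian.TwoEl.eq_one_of_odd (ClosedAbelian.twoEl_of_sq ?_) ?_))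
      · rw [← map_mul]
        convert map_one (q (cenS B)) using 2
        exact Subtype.ext (hS.sq ha)
      · refine (Nat.coprime_two_right.1 ((FittingCores.pPrimeCore_coprime (G := ↥(cenS B')) 2).coprime_dvd_left
          (card_map_dvd (H := Cfsg.pPrimeCore 2 ↥(cenS B')) (down h)))).of_dvd_nat ?_
        exact (orderOf_coe (⟨_, hmem⟩ : (Cfsg.pPrimeCore 2 ↥(cenS B')).map (down h))) ▸ orderOf_dvd_natCard _
    · have hm : (⟨down h y, hy⟩ : L) ∈ center L := hN' (mem_subgroupOf.2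
        ⟨hy, mem_map_of_mem _ ((QuotientGroup.eq_one_iff _).1 hy1)⟩)
      exact mem_inf.2 ⟨hy, mem_centralizer_iff.2 fun l hl =>
        congrArg Subtype.val (mem_center_iff.1 hm ⟨l, hl⟩)⟩
  have hCA : CA A B' K = CA A B L := by
    refine le_antisymm (fun v hv => ?_) (fun v hv => ?_)
    · obtain ⟨hvH', hvc⟩ := mem_pre.1 hv.2
      have hvH := hS.le_cenS_loc hB hv.1
      rw [hS.mem_CA hB hv.1]
      have hvN := hS.normal_comp hB hM.1 (mem_im hv.1 hvH)
      refine Loc2.centralizes_of_mod_center hM.1.2 fun l hl => ?_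
      obtain ⟨y, rfl⟩ := hLr hl
      have h1 := hker ⁅(⟨v, hvH'⟩ : ↥(cenS B')), y⁆ (by
        rw [map_commutatorElement, commutatorElement_def]
        exact mul_mem ((mem_normalizer_iff.1 hvN _).1 hl) (inv_mem hl)) (by
        rw [map_commutatorElement, commutatorElement_eq_one_iff_mul_comm]
        exact (mem_centralizer_iff.1 hvc _ (mem_map_of_mem _ (show y ∈ L₀ from hl))).symm)
      rw [map_commutatorElement, commutatorElement_def] at h1
      exact h1
    · obtain ⟨hvH, hvc⟩ := mem_pre.1 hv.2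
      refine ⟨hv.1, mem_pre.2 ⟨hS.le_cenS_loc hB' hv.1, mem_centralizer_iff.2 ?_⟩⟩
      rintro _ ⟨y, hy, rfl⟩
      have h1 : down h ⁅y, (⟨v, hS.le_cenS_loc hB' hv.1⟩ : ↥(cenS B'))⁆ = 1 := by
        rw [map_commutatorElement, commutatorElement_eq_one_iff_mul_comm]
        exact mem_centralizer_iff.1 hvc _ hy
      have h2 := q_eq_one_of_down h h1
      rwa [map_commutatorElement, commutatorElement_eq_one_iff_mul_comm] at h2
  refine ⟨K, ⟨hKc, fun hfixA => CA_ne hM (hCA ▸ le_antisymm inf_le_left fun v hv => ?_)⟩, hCA, ?_, ?_⟩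
  · exact ⟨hv, (fixes_iff.1 hfixA) ⟨hv, hS.le_cenS_loc hB' hv⟩⟩
  · intro x hx
    obtain ⟨hxB, hxL⟩ := mem_pre.1 hx
    obtain ⟨y, hy⟩ := hLr hxL
    have hyp : (y : G) ∈ pre B' K :=
      mem_pre.2 ⟨y.2, mem_map_of_mem _ (show down h y ∈ L from hy ▸ hxL)⟩
    have hd : (x * (y : G)⁻¹) ∈ cor B :=
      ⟨⟨x, hxB⟩ * ⟨y, cenS_le_of_le h y.2⟩⁻¹, (QuotientGroup.eq_one_iff _).1 (by
        show q (cenS B) (⟨x, hxB⟩ * ⟨y, cenS_le_of_le h y.2⟩⁻¹) = 1
        rw [map_mul, map_inv, ← Walter4.down_apply h y.2, hy, mul_inv_cancel]), rfl⟩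
    rw [← inv_mul_cancel_right x (y : G)]
    exact mul_mem (mem_sup_left hd) (mem_sup_right hyp)
  · intro x hx
    obtain ⟨hxB', y, hy, hyx⟩ := mem_pre.1 hx
    have hyp : (y : G) ∈ pre B L := mem_pre.2 ⟨cenS_le_of_le h y.2, hy⟩
    have hd : (x * (y : G)⁻¹) ∈ cor B' :=
      ⟨⟨x, hxB'⟩ * y⁻¹, (QuotientGroup.eq_one_iff _).1 (by
        show q (cenS B') (⟨x, hxB'⟩ * y⁻¹) = 1
        rw [map_mul, map_inv, hyx, mul_inv_cancel]), rfl⟩
    rw [← inv_mul_cancel_right x (y : G)]
    exact mul_mem (mem_sup_left hd) (mem_sup_right hyp)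

/-- A moved component at `B'` lies in a single moved component at `B`. -/
theorem pump_loc {B B' : Subgroup G} (hB : Loc A B) (hB' : Loc A B') (h : B ≤ B') (hB'H : B' ≤ cenS B)
    {L' : Subgroup (XB B')} (hM' : Moved A B' L') :
    ∃ L : Subgroup (XB B), Moved A B L ∧ CA A B L ≤ CA A B' L' ∧ pre B' L' ≤ cor B' ⊔ pre B L := by
  haveI : Fact (Nat.Prime 2) := ⟨Nat.prime_two⟩
  obtain ⟨T, hT⟩ := hS.exists_cl hB
  obtain ⟨hP, hPK⟩ := exists_pComponent (p := 2) L' hM'.1
  set P := pGen 2 (L'.comap (q (cenS B'))) with hPdef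
  have hAH := hS.le_cenS_loc hB
  have hAH' := hS.le_cenS_loc hB'
  -- `P` is perfect
  have hPperf : ⁅P, P⁆ = P := by
    refine hP.2.2 _ ?_ (commutator_le_self P) ?_
    · exact IsSubnormal.step _ P (commutator_le_self P) hP.1
        ((normal_subgroupOf_iff_le_normalizer (commutator_le_self P)).2 (normalizer_commutator_ge_left P P))
    · rw [map_commutator, hPK, component_commutator_eq hM'.1]
  set Y := P.map (down h) with hY
  have hYperf : ⁅Y, Y⁆ = Y := by rw [hY, ← map_commutator, hPperf]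
  have hYlay : Y ≤ Cfsg.layer (XB B) := by
    rintro _ ⟨⟨p, hpH⟩, hp, rfl⟩
    rw [Walter4.down_apply]
    have hp' : p ∈ Walter4.lay B' :=
      ⟨⟨p, hpH⟩, le_sSup (s := {K : Subgroup ↥(cenS B') | Cfsg.IsPComponent 2 K}) hP hp, rfl⟩
    obtain ⟨p', hp'', e⟩ := lay_le_lay h hB'.1 hB'H hp'
    rw [← map_pLayer (p := 2)]
    exact ⟨p', hp'', congrArg _ (Subtype.ext e)⟩
  have hYn : ∀ L : Subgroup (XB B), Cfsg.IsComponent L → Y ≤ normalizer (L : Set (XB B)) := fun L hL =>
    hYlay.trans (layer_le_normalizer_component hL)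
  have hAP : ∀ a (ha : a ∈ A), (⟨a, hAH' ha⟩ : ↥(cenS B')) ∈ normalizer (P : Set ↥(cenS B')) := fun a ha => by
    refine normalizer_le_pGen _ (le_normalizer_comap (q (cenS B')) ?_)
    exact hS.normal_comp hB' hM'.1 (mem_im ha (hAH' ha))
  -- an element moving `L'` cannot centralise `Y` modulo a component
  have key : ∀ L : Subgroup (XB B), Cfsg.IsComponent L → ∀ p (hp : p ∈ A), p ∉ CA A B' L' →
      (∀ y ∈ Y, ⁅q (cenS B) ⟨p, hAH hp⟩, y⁆ ∈ centralizer (L : Set (XB B))) →
        Y ≤ centralizer (L : Set (XB B)) := by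
    intro L hL p hp hpC hcomm
    set J := P ⊓ (centralizer (L : Set (XB B))).comap (down h) with hJ
    have hPn : P ≤ normalizer (J : Set ↥(cenS B')) := by
      refine (_root_.le_inf le_normalizer ?_).trans inf_normalizer_le_normalizer_inf
      exact (map_le_iff_le_comap.1 ((hYn L hL).trans (LELarge.normalizer_le_normalizer_centralizer L))).trans
        (le_normalizer_comap _)
    have hJs : J.IsSubnormal :=
      IsSubnormal.step _ P inf_le_left hP.1 ((normal_subgroupOf_iff_le_normalizer inf_le_left).2 hPn)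
    have hJL : J.map (q (cenS B')) ≤ L' := hPK ▸ map_mono inf_le_left
    haveI : ((J.map (q (cenS B'))).subgroupOf L').Normal := by
      rw [normal_subgroupOf_iff_le_normalizer hJL]
      conv_lhs => rw [← hPK]
      exact (map_mono hPn).trans (le_normalizer_map _)
    rcases quasisimple_normal hM'.1.2 ((J.map (q (cenS B'))).subgroupOf L') with e | e
    · have hJP : J = P := hP.2.2 J hJs inf_le_left
        (le_antisymm (map_mono inf_le_left) (hPK ▸ subgroupOf_eq_top.1 e))
      rintro _ ⟨y, hy, rfl⟩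
      exact (mem_inf.1 (hJP.ge hy)).2
    · refine absurd ?_ hpC
      rw [hS.mem_CA hB' hp]
      refine Loc2.centralizes_of_mod_center hM'.1.2 fun l hl => ?_
      obtain ⟨y, hy, rfl⟩ := hPK.ge hl
      set w : ↥(cenS B') := ⟨p, hAH' hp⟩ with hw
      have hwP : ⁅w, y⁆ ∈ P := by
        rw [commutatorElement_def]
        exact mul_mem ((mem_normalizer_iff.1 (hAP p hp) y).1 hy) (inv_mem hy)
      have hwJ : ⁅w, y⁆ ∈ J := by
        refine mem_inf.2 ⟨hwP, ?_⟩
        rw [mem_comap, map_commutatorElement]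
        exact hcomm _ ⟨y, hy, rfl⟩
      have hwL : q (cenS B') ⁅w, y⁆ ∈ L' := hJL (mem_map_of_mem _ hwJ)
      have hc : (⟨_, hwL⟩ : L') ∈ center L' := e (mem_subgroupOf.2 (mem_map_of_mem _ hwJ))
      rw [show q (cenS B') w * q (cenS B') y * (q (cenS B') w)⁻¹ * (q (cenS B') y)⁻¹ =
        q (cenS B') ⁅w, y⁆ by rw [map_commutatorElement, commutatorElement_def]]
      exact mem_inf.2 ⟨hwL, mem_centralizer_iff.2 fun v hv =>
        congrArg Subtype.val (mem_center_iff.1 hc ⟨v, hv⟩)⟩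
  obtain ⟨p₀, hp₀, hp₀C⟩ : ∃ p ∈ A, p ∉ CA A B' L' :=
    SetLike.not_le_iff_exists.1 fun hle => CA_ne hM' (le_antisymm inf_le_left hle)
  -- some component is not centralised by `Y`
  obtain ⟨L, hL, hYL⟩ : ∃ L : Subgroup (XB B), Cfsg.IsComponent L ∧ ¬ Y ≤ centralizer (L : Set (XB B)) := by
    by_contra hno
    push Not at hno
    have hYc : Y ≤ centralizer (Cfsg.layer (XB B) : Set (XB B)) :=
      le_centralizer_iff.1 (layer_le_iff.2 fun L hL => le_centralizer_iff.1 (hno L hL))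
    have hY1 : Y = ⊥ := by
      rw [← hYperf, eq_bot_iff, commutator_le]
      intro x hx y hy
      rw [mem_bot, commutatorElement_eq_one_iff_mul_comm]
      exact (mem_centralizer_iff.1 (hYc hx) y (hYlay hy)).symm
    refine component_ne_bot hM'.1 ((eq_bot_iff_forall _).2 fun v hv => ?_)
    obtain ⟨y, hy, rfl⟩ := hPK.ge hv
    exact q_eq_one_of_down h (mem_bot.1 (hY1 ▸ mem_map_of_mem _ hy))
  have hmoved : ∀ M : Subgroup (XB B), Cfsg.IsComponent M → ¬ Y ≤ centralizer (M : Set (XB B)) →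
      CA A B M ≤ CA A B' L' := by
    intro M hMc hMY v hv
    by_contra hvC
    refine hMY (key M hMc v hv.1 hvC fun y hy => ?_)
    have hvc := (hS.mem_CA hB hv.1).1 hv
    rw [commutatorElement_def, mul_assoc, mul_assoc]
    refine mul_mem hvc ?_
    rw [← mul_assoc]
    exact (mem_normalizer_iff.1 (LELarge.normalizer_le_normalizer_centralizer M (hYn M hMc hy)) _).1 (inv_mem hvc)
  have hLM : Moved A B L := ⟨hL, fun hfixA => hp₀C (hmoved L hL hYL
    ⟨hp₀, (fixes_iff.1 hfixA) ⟨hp₀, hAH hp₀⟩⟩)⟩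
  -- no second component
  have hothers : ∀ M : Subgroup (XB B), Cfsg.IsComponent M → M ≠ L → Y ≤ centralizer (M : Set (XB B)) := by
    intro M hMc hne
    by_contra hMY
    refine hYL ?_
    -- the elements of `A` in `L` centralise `L'`
    have hu : ∀ u (hu : u ∈ A), q (cenS B) ⟨u, hAH hu⟩ ∈ L → u ∈ CA A B' L' := by
      intro u hu huL
      by_contra huC
      refine hMY (key M hMc u hu huC fun y hy => ?_)
      refine commutator_eq_bot_iff_le_centralizer.1 (components_commute hL hMc hne.symm) ?_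
      rw [commutatorElement_def, mul_assoc, mul_assoc]
      refine mul_mem huL ?_
      rw [← mul_assoc]
      exact (mem_normalizer_iff.1 (hYn L hL hy) _).1 (inv_mem huL)
    set V₀ : Subgroup ↥(cenS B') := (A.subgroupOf (cenS B')) ⊓ L.comap (down h) with hV₀
    have hV₀2 : IsPGroup 2 V₀ :=
      (hS.isPGroup.comap_of_injective (cenS B').subtype (cenS B').subtype_injective).to_le inf_le_left
    have hker : (Nat.card (q (cenS B')).ker).Coprime 2 := by
      rw [QuotientGroup.ker_mk']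
      exact FittingCores.pPrimeCore_coprime 2
    have hsol : Group.IsSolvable ↥(L ⊓ centralizer ((im (cenS B) A ⊓ L : Subgroup (XB B)) : Set (XB B))) :=
      (hT.data hL (hS.moved_iff.1 hLM.2)).sol
    set R := (Cfsg.pPrimeCore 2 ↥(cenS B')).map (down h) with hR
    have hRsol : Group.IsSolvable ↥R := Walter4.solvable_of_coprime
      ((FittingCores.pPrimeCore_coprime (G := ↥(cenS B')) 2).coprime_dvd_left (card_map_dvd _ _))
    have hRL : R ≤ normalizer (L : Set (XB B)) := by
      rintro _ ⟨⟨o, hoH⟩, ho, rfl⟩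
      exact Walter4.cor_le_normalizer_component hB'H hB'.1 hL
        (mem_im (show o ∈ cor B' from ⟨⟨o, hoH⟩, ho, rfl⟩) (cenS_le_of_le h hoH))
    have hYR : Y ≤ normalizer (R : Set (XB B)) :=
      (map_mono le_normalizer_of_normal).trans (le_normalizer_map _)
    have hYLC : Y ≤ L ⊔ centralizer (L : Set (XB B)) := hYlay.trans (layer_le_iff.2 fun M' hM' => by
      by_cases hML : M' = L
      · exact hML ▸ le_sup_left
      · exact le_sup_of_le_right (commutator_eq_bot_iff_le_centralizer.1 (components_commute hM' hL hML)))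
    refine Loc2.le_centralizer_of_split (V := im (cenS B) A ⊓ L) hYperf inf_le_right hsol hRsol hRL hYR hYLC ?_
    rintro _ ⟨y, hy, rfl⟩
    have hy' : q (cenS B') y ∈ centralizer ((V₀.map (q (cenS B')) : Subgroup (XB B')) : Set (XB B')) := by
      refine mem_centralizer_iff.2 ?_
      rintro _ ⟨v, hv, rfl⟩
      obtain ⟨hvA, hvL⟩ := mem_inf.1 hv
      have hvC := (hS.mem_CA hB' hvA).1 (hu v hvA hvL)
      exact (mem_centralizer_iff.1 hvC _ (hPK.le (mem_map_of_mem _ hy))).symm
    rw [CoprimeQuotient.centralizer_map (q (cenS B')) (QuotientGroup.mk'_surjective _) hker hV₀2] at hy'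
    obtain ⟨c, hc, hcy⟩ := hy'
    refine ⟨down h c, mem_centralizer_iff.2 ?_, ?_⟩
    · rintro v hv
      obtain ⟨⟨⟨a, haH⟩, ha, rfl⟩, haL⟩ := mem_inf.1 hv
      have hm : (⟨a, hAH' ha⟩ : ↥(cenS B')) ∈ V₀ := mem_inf.2 ⟨ha, haL⟩
      have := mem_centralizer_iff.1 hc _ hm
      have h2 := congrArg (down h) this
      rw [map_mul, map_mul] at h2
      exact h2
    · exact ⟨c⁻¹ * y, QuotientGroup.eq.1 hcy, by rw [map_mul, map_inv]⟩
  -- the image of `P` is inside `L`
  set E' := ⨆ M : {M : Subgroup (XB B) // Cfsg.IsComponent M ∧ M ≠ L}, (M : Subgroup (XB B)) with hE'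
  have hE'C : E' ≤ centralizer (L : Set (XB B)) := iSup_le fun M =>
    commutator_eq_bot_iff_le_centralizer.1 (components_commute M.2.1 hL M.2.2)
  set Zc := centralizer (Cfsg.layer (XB B) : Set (XB B)) with hZc
  have hYZ : ∀ y ∈ Y, ∃ l ∈ L, ∃ z ∈ Zc, y = l * z := by
    intro y hy
    have hy2 : y ∈ L ⊔ E' := (layer_le_iff.2 fun M hMc => by
      by_cases hML : M = L
      · exact hML ▸ le_sup_left
      · exact le_sup_of_le_right (le_iSup
          (fun M : {M : Subgroup (XB B) // Cfsg.IsComponent M ∧ M ≠ L} => (M : Subgroup (XB B))) ⟨M, hMc, hML⟩))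
        (hYlay hy)
    obtain ⟨l, hl, z, hz, rfl⟩ := (SolvBasic.mem_sup_iff_of_le_normalizer
      (hE'C.trans (centralizer_le_normalizer _))).1 hy2
    refine ⟨l, hl, z, ?_, rfl⟩
    rw [hZc, ← zpowers_le, le_centralizer_iff, layer_le_iff]
    intro M hMc
    rw [le_centralizer_iff, zpowers_le]
    by_cases hML : M = L
    · exact hML ▸ hE'C hz
    · have hlM : l ∈ centralizer (M : Set (XB B)) :=
        commutator_eq_bot_iff_le_centralizer.1 (components_commute hL hMc (Ne.symm hML)) hl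
      have := mul_mem (inv_mem hlM) (hothers M hMc hML hy)
      rwa [inv_mul_cancel_left] at this
  have hYL' : Y ≤ L := by
    rw [← hYperf, commutator_le]
    intro x hx y hy
    obtain ⟨l, hl, z, hz, rfl⟩ := hYZ x hx
    obtain ⟨l', hl', z', hz', rfl⟩ := hYZ y hy
    have hz'lay : z' ∈ Cfsg.layer (XB B) := by
      have := mul_mem (inv_mem (component_le_layer hL hl')) (hYlay hy)
      rwa [inv_mul_cancel_left] at this
    have hc : ∀ v ∈ L, v * z = z * v ∧ v * z' = z' * v := fun v hv =>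
      ⟨mem_centralizer_iff.1 hz v (component_le_layer hL hv),
        mem_centralizer_iff.1 hz' v (component_le_layer hL hv)⟩
    have hzz : z' * z = z * z' := mem_centralizer_iff.1 hz z' hz'lay
    have e : ⁅l * z, l' * z'⁆ = ⁅l, l'⁆ := by
      rw [commutatorElement_def, commutatorElement_def]
      calc l * z * (l' * z') * (l * z)⁻¹ * (l' * z')⁻¹
          = l * (z * l') * (z' * z⁻¹) * l⁻¹ * z'⁻¹ * l'⁻¹ := by group
        _ = l * (l' * z) * (z⁻¹ * z') * l⁻¹ * z'⁻¹ * l'⁻¹ := by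
            rw [(hc l' hl').1, (show Commute z' z⁻¹ from Commute.inv_right hzz).eq]
        _ = l * l' * (z' * l⁻¹) * z'⁻¹ * l'⁻¹ := by group
        _ = l * l' * (l⁻¹ * z') * z'⁻¹ * l'⁻¹ := by rw [(hc l⁻¹ (inv_mem hl)).2]
        _ = l * l' * l⁻¹ * l'⁻¹ := by group
    rw [e, commutatorElement_def]
    exact mul_mem (mul_mem (mul_mem hl hl') (inv_mem hl)) (inv_mem hl')
  refine ⟨L, hLM, hmoved L hL hYL, ?_⟩
  intro x hx
  obtain ⟨hxB', hxL⟩ := mem_pre.1 hx
  obtain ⟨y, hy, hyx⟩ := hPK.ge hxL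
  have hyp : (y : G) ∈ pre B L := mem_pre.2 ⟨cenS_le_of_le h y.2, hYL' (mem_map_of_mem _ hy)⟩
  have hd : (x * (y : G)⁻¹) ∈ cor B' :=
    ⟨⟨x, hxB'⟩ * y⁻¹, (QuotientGroup.eq_one_iff _).1 (by
      show q (cenS B') (⟨x, hxB'⟩ * y⁻¹) = 1
      rw [map_mul, map_inv, hyx, mul_inv_cancel]), rfl⟩
  rw [← inv_mul_cancel_right x (y : G)]
  exact mul_mem (mem_sup_left hd) (mem_sup_right hyp)

end Setup

/-- The structure of the centralisers. -/
theorem localStmt : LocalStmt.{u} := fun _ _ _ _ _ hS =>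
  { normal := fun _ hB _ hL => hS.normal_comp hB hL
    torus := fun _ hB _ hM => hS.exists_torus hB hM
    gen := fun _ hB => hS.gen_loc hB
    orth := fun _ hB _ _ hL hM hne _ _ hT => hS.orth_comp hB hL hM hne hT
    lift := fun _ _ hB hB' h _ hM hfix => hS.lift_loc hB hB' h hM hfix
    pump := fun _ _ hB hB' h hH _ hM => hS.pump_loc hB hB' h hH hM }

end Cfsg.Agent.Gold1169
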