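import Cfsg.Agent.Lib.Gold1169.Local.Closed

/-!
The torus of a component which `A` does not centralise, and the generation of the group by these
components and the normaliser of `A`.
-/

set_option autoImplicit false
set_option linter.style.haveILetI false
set_option linter.unusedSectionVars false

namespace Cfsg.Agent.Gold1169.Loc2

open Subgroup
open scoped commutatorElement

universe u

variable {X : Type u} [Group X]

/-- The automorphism of `K ⧸ Z(K)` induced by an element normalising `K`. -/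
noncomputable def centralQuotAut {K : Subgroup X} {a : X} (ha : a ∈ normalizer (K : Set X)) :
    MulAut (↥K ⧸ center ↥K) :=
  let e : MulAut ↥K :=
    { toFun := fun x => ⟨a * x * a⁻¹, (mem_normalizer_iff.1 ha x).1 x.2⟩
      invFun := fun x => ⟨a⁻¹ * x * a, (mem_normalizer_iff.1 ha _).2 (by
        rw [show a * (a⁻¹ * (x : X) * a) * a⁻¹ = x by group]; exact x.2)⟩
      left_inv := fun x => Subtype.ext (show a⁻¹ * (a * (x : X) * a⁻¹) * a = x by group)
      right_inv := fun x => Subtype.ext (show a * (a⁻¹ * (x : X) * a) * a⁻¹ = x by group)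
      map_mul' := fun x y => Subtype.ext
        (show a * ((x : X) * y) * a⁻¹ = (a * x * a⁻¹) * (a * y * a⁻¹) by group) }
  QuotientGroup.congr _ _ e (Components.center_map_equiv e)

theorem centralQuotAut_mk {K : Subgroup X} {a : X} (ha : a ∈ normalizer (K : Set X)) (x : ↥K) :
    centralQuotAut ha (QuotientGroup.mk' _ x) =
      QuotientGroup.mk' _ ⟨a * x * a⁻¹, (mem_normalizer_iff.1 ha x).1 x.2⟩ := rfl

/-- What is used about a moved component. -/
structure Data (A K : Subgroup X) : Prop where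
  dec : ∀ a ∈ A, ∃ u ∈ A ⊓ K, a * u ∈ centralizer (K : Set X)
  torus : ∃ h ∈ K, h ∈ normalizer (A : Set X) ∧ Odd (orderOf h) ∧
    (∀ a ∈ A, h * a * h⁻¹ = a → a ∈ centralizer (K : Set X)) ∧
    (∀ x ∈ A, x ∉ centralizer (K : Set X) → ∀ y ∈ A, y ∉ centralizer (K : Set X) →
      ∃ i : ℕ, h ^ i * x * (h ^ i)⁻¹ * y⁻¹ ∈ centralizer (K : Set X)) ∧
    (∀ i : ℕ, ∀ x ∈ A, x ∉ centralizer (K : Set X) → h ^ i * x * (h ^ i)⁻¹ * x⁻¹ ∈ centralizer (K : Set X) →
      ∀ y ∈ A, h ^ i * y * (h ^ i)⁻¹ * y⁻¹ ∈ centralizer (K : Set X))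
  two : ∃ x ∈ A, ∃ y ∈ A, x ∉ centralizer (K : Set X) ∧ y ∉ centralizer (K : Set X) ∧
    x * y ∉ centralizer (K : Set X)
  sol : Group.IsSolvable ↥(K ⊓ centralizer ((A ⊓ K : Subgroup X) : Set X))

namespace Cl

variable [Finite X] {T : Sylow 2 X} {A : Subgroup X} (hC : Cl T A)
include hC

theorem data {K : Subgroup X} (hK : Cfsg.IsComponent K) (hmove : ¬ A ≤ centralizer (K : Set X)) :
    Data A K := by
  haveI : Fact (Nat.Prime 2) := ⟨Nat.prime_two⟩
  obtain ⟨R, hR⟩ := hC.exists_sylow_component hK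
  obtain ⟨hZR, -⟩ := hC.center_le hK R
  haveI hsimp : IsSimpleGroup (↥K ⧸ center ↥K) := hK.2.2
  let π := QuotientGroup.mk' (center ↥K)
  have hπ : Function.Surjective π := QuotientGroup.mk'_surjective _
  let Rb := R.mapSurjective hπ
  have hnonab : ¬ IsMulCommutative (↥K ⧸ center ↥K) := fun hcm => by
    refine Components.quasisimple_not_solvable hK.2 ?_
    haveI : Group.IsSolvable (↥K ⧸ center ↥K) := Group.isSolvable_of_comm fun a b => hcm.is_comm.comm a b
    haveI : Group.IsSolvable ↥(center ↥K) :=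
      Group.isSolvable_of_comm fun a b => Subtype.ext ((mem_center_iff.1 b.2) a)
    exact Group.isSolvable_of_ker_le_range (center ↥K).subtype π
      (le_of_eq ((QuotientGroup.ker_mk' _).trans (range_subtype _).symm))
  have hpre : ∀ x : ↥K, π x ∈ (Rb : Subgroup (↥K ⧸ center ↥K)) → x ∈ (R : Subgroup ↥K) := by
    rintro x ⟨y, hy, hyx⟩
    have hz : y⁻¹ * x ∈ center ↥K := QuotientGroup.eq.1 hyx
    have := mul_mem (show y ∈ (R : Subgroup ↥K) from hy) (hZR hz)
    rwa [mul_inv_cancel_left] at this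
  have hcen : ∀ x : ↥K, π x = 1 ↔ (x : X) ∈ centralizer (K : Set X) := fun x => by
    rw [show π x = (x : ↥K ⧸ center ↥K) from rfl, QuotientGroup.eq_one_iff, mem_center_iff, mem_centralizer_iff]
    exact ⟨fun h k hk => congrArg Subtype.val (h ⟨k, hk⟩), fun h k => Subtype.ext (h k k.2)⟩
  set B := (A.subgroupOf K).map π with hB
  have hBsc : Cfsg.IsStronglyClosed B (Rb : Subgroup (↥K ⧸ center ↥K)) := by
    refine ⟨map_mono fun x hx => (hR x).2 (hC.le hx), ?_⟩
    rintro _ ⟨x, hx, rfl⟩ g hg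
    obtain ⟨g', rfl⟩ := hπ g
    rw [← map_inv, ← map_mul, ← map_mul] at hg ⊢
    refine mem_map_of_mem _ (mem_subgroupOf.2 ?_)
    exact hC.conj_mem (show (x : X) ∈ A from hx) ((hR _).1 (hpre _ hg))
  have hBea : Cfsg.IsElementaryAbelian 2 B := by
    refine ⟨⟨⟨fun a b => Subtype.ext ?_⟩⟩, ?_⟩
    · obtain ⟨x, hx, hxa⟩ := a.2
      obtain ⟨y, hy, hyb⟩ := b.2
      show (a : ↥K ⧸ center ↥K) * b = b * a
      rw [← hxa, ← hyb, ← map_mul, ← map_mul]
      exact congrArg π (Subtype.ext (hC.comm hx hy))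
    · rintro _ ⟨x, hx, rfl⟩
      rw [← map_pow]
      convert map_one π using 2
      exact Subtype.ext (by simpa using hC.ea.2 (x : X) hx)
  have hB0 : B ≠ ⊥ := fun h => by
    obtain ⟨x, hx, hxC⟩ := hC.exists_mem_noncentral hK hmove
    refine hxC ((hcen ⟨x, (mem_inf.1 hx).2⟩).1 (mem_bot.1 ?_))
    rw [← h]
    exact mem_map_of_mem _ (mem_subgroupOf.2 (mem_inf.1 hx).1)
  have hcard : Nat.card (↥K ⧸ center ↥K) ≤ Nat.card X :=
    (Nat.card_le_card_of_surjective π hπ).trans (card_le_card_group K)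
  obtain ⟨P, hP⟩ := hC.kind _ hsimp hnonab (hC.known _ hcard hsimp hnonab Rb B hB0 hBea hBsc) Rb
  obtain ⟨hb, hbN, hbodd, htr, hfree, -⟩ := hP.reg
  have hBP : B ≤ P := fun v hv => (hP.mem_iff v (hBsc.1 hv)).1 (by rw [← pow_two]; exact hBea.2 v hv)
  have hPB : P ≤ B := fun v hv => by
    by_cases hv1 : v = 1
    · exact hv1 ▸ one_mem _
    obtain ⟨w, hw, hw1⟩ := B.bot_or_exists_ne_one.resolve_left hB0
    obtain ⟨i, hi⟩ := htr w (hBP hw) hw1 v hv hv1
    rw [← hi]
    exact hBsc.2 w hw _ ((mem_normalizer_iff.1 (pow_mem hbN i) w).1 (hBsc.1 hw))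
  -- inner automorphisms
  have hdec : ∀ a ∈ A, ∃ u ∈ A ⊓ K, a * u ∈ centralizer (K : Set X) := by
    intro a ha
    have haK := hC.le_normalizer_component hK ha
    set φ := centralQuotAut haK with hφ
    have hφ2 : φ * φ = 1 := by
      refine MulEquiv.ext fun v => ?_
      obtain ⟨x, rfl⟩ := hπ v
      rw [MulAut.mul_apply, hφ]
      rw [show π x = QuotientGroup.mk' _ x from rfl, centralQuotAut_mk, centralQuotAut_mk, MulAut.one_apply]
      refine congrArg _ (Subtype.ext ?_)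
      show a * (a * (x : X) * a⁻¹) * a⁻¹ = x
      rw [show a * (a * (x : X) * a⁻¹) * a⁻¹ = (a * a) * x * (a * a)⁻¹ by group, hC.sq ha]
      group
    have hfx : ∀ v ∈ P, φ v = v := fun v hv => by
      obtain ⟨x, hx, rfl⟩ := hPB hv
      rw [hφ, show π x = QuotientGroup.mk' _ x from rfl, centralQuotAut_mk]
      refine congrArg _ (Subtype.ext ?_)
      show a * (x : X) * a⁻¹ = x
      rw [hC.comm ha (show (x : X) ∈ A from hx), mul_inv_cancel_right]
    have htp : ∀ v ∈ (Rb : Subgroup (↥K ⧸ center ↥K)), φ v * v⁻¹ ∈ P := fun v hv => by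
      obtain ⟨x, hx, rfl⟩ := hv
      rw [hφ]
      refine hBP ?_
      show centralQuotAut haK (QuotientGroup.mk' _ x) * (QuotientGroup.mk' _ x)⁻¹ ∈ B
      rw [centralQuotAut_mk, ← map_inv, ← map_mul]
      refine mem_map_of_mem _ (mem_subgroupOf.2 ?_)
      show a * (x : X) * a⁻¹ * (x : X)⁻¹ ∈ A
      have h := inv_mem (hC.comm_mem ((hR x).1 hx) ha)
      rwa [show ((x : X) * a * (x : X)⁻¹ * a⁻¹)⁻¹ = a * x * a⁻¹ * (x : X)⁻¹ by group] at h
    obtain ⟨p, hp, hpe⟩ := hP.inner φ hφ2 hfx htp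
    obtain ⟨u, hu, rfl⟩ := hPB hp
    refine ⟨u, mem_inf.2 ⟨hu, u.2⟩, ?_⟩
    have hau : a * (u : X) ∈ normalizer (K : Set X) := mul_mem haK (le_normalizer u.2)
    refine centralizes_of_mod_center hK.2 fun k hk => ?_
    set k' : ↥K := u * ⟨k, hk⟩ * u⁻¹ with hk'
    have h1 : φ (π k') = π u * π k' * (π u)⁻¹ := by rw [hpe]; rfl
    rw [hφ, show π k' = QuotientGroup.mk' _ k' from rfl, centralQuotAut_mk] at h1
    have hmem : a * (k' : X) * a⁻¹ ∈ K := (mem_normalizer_iff.1 haK _).1 k'.2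
    have h2 : π (⟨_, hmem⟩ * (u * k' * u⁻¹)⁻¹) = 1 := by
      rw [map_mul, map_inv, map_mul, map_mul, map_inv]
      exact mul_inv_eq_one.2 h1
    have hu2 : (u : X) * u = 1 := hC.sq hu
    have e : a * (u : X) * k * (a * u)⁻¹ * k⁻¹ =
        ((⟨_, hmem⟩ * (u * k' * u⁻¹)⁻¹ : ↥K) : X) := by
      show a * (u : X) * k * (a * u)⁻¹ * k⁻¹ =
        a * ((u : X) * k * (u : X)⁻¹) * a⁻¹ * ((u : X) * ((u : X) * k * (u : X)⁻¹) * (u : X)⁻¹)⁻¹
      rw [show (u : X) * ((u : X) * k * (u : X)⁻¹) * (u : X)⁻¹ = ((u : X) * u) * k * ((u : X) * u)⁻¹ by group, hu2]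
      group
    refine mem_inf.2 ⟨by rw [e]; exact SetLike.coe_mem _, ?_⟩
    rw [e]
    exact (hcen _).1 h2
  -- a lift of odd order of the torus
  obtain ⟨y, rfl⟩ := hπ hb
  obtain ⟨s, r, hr, hys⟩ := Nat.exists_eq_pow_mul_and_not_dvd (orderOf_pos y).ne' 2 (by norm_num)
  have hcop : (2 ^ s).Coprime r := (Nat.prime_two.coprime_iff_not_dvd.2 hr).pow_left s
  obtain ⟨m, hm1, hm2⟩ := Nat.chineseRemainder hcop 0 1
  set h := y ^ m with hhdef
  have hhodd : Odd (orderOf (h : X)) := by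
    obtain ⟨c, hc⟩ : 2 ^ s ∣ m := Nat.modEq_zero_iff_dvd.1 hm1
    rw [Subgroup.orderOf_coe, hhdef, hc, pow_mul]
    refine (Nat.not_even_iff_odd.1 fun he => hr ((even_iff_two_dvd.1 he).trans ?_))
    refine (orderOf_pow_dvd c).trans ?_
    rw [orderOf_pow, hys, Nat.gcd_eq_right (dvd_mul_right _ _), Nat.mul_div_cancel_left _ (by positivity)]
  have hhb : π h = π y := by
    rw [hhdef, map_pow]
    have hd : orderOf (π y) ∣ r := by
      have h1 := hys ▸ orderOf_map_dvd π y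
      exact ((Nat.coprime_two_right.2 hbodd).pow_right s).dvd_of_dvd_mul_left h1
    have hm' : m ≡ 1 [MOD orderOf (π y)] := hm2.of_dvd hd
    exact (pow_eq_pow_iff_modEq.2 hm').trans (pow_one _)
  have hhR : ∀ x : ↥K, x ∈ (R : Subgroup ↥K) → h * x * h⁻¹ ∈ (R : Subgroup ↥K) := fun x hx => hpre _ (by
    rw [map_mul, map_mul, map_inv, hhb]
    exact (mem_normalizer_iff.1 hbN _).1 ⟨x, hx, rfl⟩)
  have hfixC : ∀ w ∈ centralizer (K : Set X), (h : X) * w * (h : X)⁻¹ = w := fun w hw => by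
    rw [mem_centralizer_iff.1 hw h h.2, mul_inv_cancel_right]
  have hhA : (h : X) ∈ normalizer (A : Set X) := mem_normalizer_fintype fun a ha => by
    obtain ⟨u, hu, hau⟩ := hdec a ha
    obtain ⟨huA, huK⟩ := mem_inf.1 hu
    have h1 : (h : X) * u * (h : X)⁻¹ ∈ A :=
      hC.conj_mem huA ((hR _).1 (hhR ⟨u, huK⟩ ((hR _).2 (hC.le huA))))
    have h2 := mul_mem (mul_mem ha huA) (inv_mem h1)
    rw [show (h : X) * a * (h : X)⁻¹ = ((h : X) * (a * u) * (h : X)⁻¹) * ((h : X) * u * (h : X)⁻¹)⁻¹ by group,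
      hfixC _ hau]
    exact h2
  -- the map to `P`
  have hred : ∀ (i : ℕ) (x : X) (hx : x ∈ A ⊓ K) (a : X), a * x ∈ centralizer (K : Set X) →
      (h : X) ^ i * a * ((h : X) ^ i)⁻¹ =
        (a * x) * ((((h ^ i * ⟨x, (mem_inf.1 hx).2⟩ * (h ^ i)⁻¹ : ↥K)) : X))⁻¹ := by
    intro i x hx a hax
    have hw : (h : X) ^ i * (a * x) * ((h : X) ^ i)⁻¹ = a * x := by
      rw [mem_centralizer_iff.1 hax _ (pow_mem h.2 i), mul_inv_cancel_right]
    simp only [Subgroup.coe_mul, Subgroup.coe_inv, Subgroup.coe_pow]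
    conv_rhs => rw [← hw]
    group
  have hmemP : ∀ (x : X) (hx : x ∈ A ⊓ K), π ⟨x, (mem_inf.1 hx).2⟩ ∈ P := fun x hx =>
    hBP (mem_map_of_mem _ (mem_subgroupOf.2 (mem_inf.1 hx).1))
  have hne : ∀ (a x : X) (hx : x ∈ A ⊓ K), a * x ∈ centralizer (K : Set X) → a ∉ centralizer (K : Set X) →
      π ⟨x, (mem_inf.1 hx).2⟩ ≠ 1 := fun a x hx hax ha e => ha (by
    have := mul_mem hax (inv_mem ((hcen _).1 e))
    rwa [mul_inv_cancel_right] at this)
  refine ⟨hdec, ⟨(h : X), h.2, hhA, hhodd, fun a ha he => ?_, fun a ha haC b hb hbC => ?_,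
    fun i a ha haC he b hb => ?_⟩, ?_, ?_⟩
  · obtain ⟨u, hu, hau⟩ := hdec a ha
    by_contra haC
    have hu1 := hne a u hu hau haC
    have hfix : π h * π ⟨u, (mem_inf.1 hu).2⟩ * (π h)⁻¹ = π ⟨u, (mem_inf.1 hu).2⟩ := by
      rw [← map_inv, ← map_mul, ← map_mul]
      refine congrArg π (Subtype.ext ?_)
      show (h : X) * u * (h : X)⁻¹ = u
      have h2 : (h : X) * (a * u) * (h : X)⁻¹ = a * u := hfixC _ hau
      rw [show (h : X) * (a * u) * (h : X)⁻¹ = ((h : X) * a * (h : X)⁻¹) * ((h : X) * u * (h : X)⁻¹) by group, he] at h2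
      exact mul_left_cancel h2
    rw [hhb] at hfix
    have hfix1 : ∀ v ∈ P, π y * v * (π y)⁻¹ = v := fun v hv => by
      simpa using hfree 1 _ (hmemP u hu) hu1 (by simpa using hfix) v hv
    have hall : ∀ (i : ℕ), ∀ v ∈ P, (π y) ^ i * v * ((π y) ^ i)⁻¹ = v := by
      intro i v hv
      rw [(show Commute ((π y) ^ i) v from (show Commute (π y) v from mul_inv_eq_iff_eq_mul.1 (hfix1 v hv)).pow_left i).eq,
        mul_inv_cancel_right]
    have h4 := hP.four
    have hsub : (P : Set (↥K ⧸ center ↥K)) ⊆ {1, π ⟨u, (mem_inf.1 hu).2⟩} := by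
      intro v hv
      by_cases hv1 : v = 1
      · exact Or.inl hv1
      obtain ⟨i, hi⟩ := htr _ (hmemP u hu) hu1 v hv hv1
      exact Or.inr (by rw [← hi, hall i _ (hmemP u hu)]; rfl)
    have := Set.ncard_le_ncard hsub
    rw [← Nat.card_coe_set_eq] at this
    have h2 : ({1, π ⟨u, (mem_inf.1 hu).2⟩} : Set (↥K ⧸ center ↥K)).ncard ≤ 2 :=
      (Set.ncard_insert_le _ _).trans (by rw [Set.ncard_singleton])
    change Nat.card ↥P ≤ _ at this
    omega
  · obtain ⟨u, hu, hau⟩ := hdec a ha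
    obtain ⟨v, hv, hbv⟩ := hdec b hb
    obtain ⟨i, hi⟩ := htr _ (hmemP u hu) (hne a u hu hau haC) _ (hmemP v hv) (hne b v hv hbv hbC)
    refine ⟨i, ?_⟩
    rw [hred i u hu a hau]
    rw [← hhb, ← map_pow, ← map_inv, ← map_mul, ← map_mul] at hi
    set z := h ^ i * ⟨u, (mem_inf.1 hu).2⟩ * (h ^ i)⁻¹ with hz
    have hd : π (z⁻¹ * ⟨v, (mem_inf.1 hv).2⟩) = 1 := by rw [map_mul, map_inv, hi, inv_mul_cancel]
    rw [show a * u * (z : X)⁻¹ * b⁻¹ = (a * u) * ((z : X)⁻¹ * v) * (b * v)⁻¹ by group]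
    exact mul_mem (mul_mem hau ((hcen _).1 hd)) (inv_mem hbv)
  · obtain ⟨u, hu, hau⟩ := hdec a ha
    obtain ⟨v, hv, hbv⟩ := hdec b hb
    rw [hred i u hu a hau] at he
    have hfx : π (h ^ i * ⟨u, (mem_inf.1 hu).2⟩ * (h ^ i)⁻¹) = π ⟨u, (mem_inf.1 hu).2⟩ := by
      have hd : (((h ^ i * ⟨u, (mem_inf.1 hu).2⟩ * (h ^ i)⁻¹ : ↥K)⁻¹ * ⟨u, (mem_inf.1 hu).2⟩ : ↥K) : X) ∈
          centralizer (K : Set X) := by
        have := mul_mem (mul_mem (inv_mem hau) he) hau
        convert this using 1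
        simp only [Subgroup.coe_mul, Subgroup.coe_inv, Subgroup.coe_pow]
        group
      have h2 := (hcen _).2 hd
      rw [map_mul, map_inv] at h2
      exact inv_mul_eq_one.1 h2
    rw [map_mul, map_mul, map_inv, map_pow, hhb] at hfx
    have hy := hfree i _ (hmemP u hu) (hne a u hu hau haC) hfx _ (hmemP v hv)
    rw [← hhb, ← map_pow, ← map_inv, ← map_mul, ← map_mul] at hy
    rw [hred i v hv b hbv]
    set z := h ^ i * ⟨v, (mem_inf.1 hv).2⟩ * (h ^ i)⁻¹ with hz
    have hd : π (z⁻¹ * ⟨v, (mem_inf.1 hv).2⟩) = 1 := by rw [map_mul, map_inv, hy, inv_mul_cancel]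
    rw [show b * v * (z : X)⁻¹ * b⁻¹ = (b * v) * ((z : X)⁻¹ * v) * (b * v)⁻¹ by group]
    exact mul_mem (mul_mem hbv ((hcen _).1 hd)) (inv_mem hbv)
  · obtain ⟨w, hw, hw1⟩ := B.bot_or_exists_ne_one.resolve_left hB0
    obtain ⟨w', hw', hw'1⟩ : ∃ w' ∈ P, w' ≠ 1 ∧ w' ≠ w := by
      by_contra hno
      push Not at hno
      have hsub : (P : Set (↥K ⧸ center ↥K)) ⊆ {1, w} := fun v hv => by
        by_cases hv1 : v = 1
        · exact Or.inl hv1
        · exact Or.inr (hno v hv hv1)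
      have := Set.ncard_le_ncard hsub
      rw [← Nat.card_coe_set_eq] at this
      have h2 : ({1, w} : Set (↥K ⧸ center ↥K)).ncard ≤ 2 :=
        (Set.ncard_insert_le _ _).trans (by rw [Set.ncard_singleton])
      change Nat.card ↥P ≤ _ at this
      have := hP.four
      omega
    obtain ⟨x, hx, rfl⟩ := hw
    obtain ⟨z, hz, rfl⟩ := hPB hw'
    refine ⟨x, hx, z, hz, fun h => hw1 ((hcen x).2 h), fun h => hw'1.1 ((hcen z).2 h), fun h => hw'1.2 ?_⟩
    have h1 : π (x * z) = 1 := (hcen (x * z)).2 h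
    rw [map_mul] at h1
    have h2 : π x * π x = 1 := by
      rw [← pow_two]
      exact hBea.2 _ (mem_map_of_mem _ hx)
    exact mul_left_cancel (h1.trans h2.symm)
  · haveI := hP.sol
    set D := (K ⊓ centralizer ((A ⊓ K : Subgroup X) : Set X)).subgroupOf K with hD
    have hDP : D.map π ≤ centralizer (P : Set (↥K ⧸ center ↥K)) := by
      rintro _ ⟨d, hd, rfl⟩
      refine mem_centralizer_iff.2 fun v hv => ?_
      obtain ⟨x, hx, rfl⟩ := hPB hv
      rw [← map_mul, ← map_mul]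
      exact congrArg π (Subtype.ext (mem_centralizer_iff.1 (mem_inf.1 hd).2 x (mem_inf.2 ⟨hx, x.2⟩)))
    haveI : Group.IsSolvable ↥(D.map π) := Components.isSolvable_mono hDP
    haveI : Group.IsSolvable ↥(center ↥K) :=
      Group.isSolvable_of_comm fun a b => Subtype.ext ((mem_center_iff.1 b.2) a)
    haveI : Group.IsSolvable ↥(center ↥K ⊓ D) := Components.isSolvable_mono inf_le_left
    haveI : Group.IsSolvable ↥D := by
      refine Group.isSolvable_of_ker_le_range (Subgroup.inclusion (inf_le_right : center ↥K ⊓ D ≤ D))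
        (π.subgroupMap D) ?_
      intro d hd
      refine ⟨⟨d, mem_inf.2 ⟨?_, d.2⟩⟩, rfl⟩
      exact (QuotientGroup.eq_one_iff _).1 (congrArg Subtype.val hd)
    exact (Components.isSolvable_congr (subgroupOfEquivOfLe inf_le_left)).1 inferInstance

/-- The components not centralised by `A`. -/
def EA (A : Subgroup X) : Subgroup X :=
  ⨆ K : {K : Subgroup X // Cfsg.IsComponent K ∧ ¬ A ≤ centralizer (K : Set X)}, (K : Subgroup X)

theorem le_EA {K : Subgroup X} (hK : Cfsg.IsComponent K) (h : ¬ A ≤ centralizer (K : Set X)) : K ≤ EA A :=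
  le_iSup (fun K : {K : Subgroup X // Cfsg.IsComponent K ∧ ¬ A ≤ centralizer (K : Set X)} => (K : Subgroup X))
    ⟨K, hK, h⟩

theorem EA_normal : (EA A).Normal := by
  haveI : Fact (Nat.Prime 2) := ⟨Nat.prime_two⟩
  refine ⟨fun x hx g => ?_⟩
  have hle : (EA A).map (MulAut.conj g).toMonoidHom ≤ EA A := by
    rw [EA, Subgroup.map_iSup]
    refine iSup_le fun K => ?_
    set K' := (K : Subgroup X).map (MulAut.conj g).toMonoidHom with hK'
    have hK'c : Cfsg.IsComponent K' := Components.component_conj K.2.1 g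
    refine hC.le_EA hK'c fun hcon => ?_
    obtain ⟨x, hx, hxC⟩ := hC.exists_mem_noncentral K.2.1 K.2.2
    obtain ⟨hxA, hxK⟩ := mem_inf.1 hx
    obtain ⟨R, hR⟩ := hC.exists_sylow_component hK'c
    have hgx : g * x * g⁻¹ ∈ K' := ⟨x, hxK, rfl⟩
    have hp : IsPGroup 2 ↥(zpowers (⟨_, hgx⟩ : ↥K')) := by
      rintro ⟨v, hv⟩
      obtain ⟨i, rfl⟩ := mem_zpowers_iff.1 hv
      refine ⟨1, Subtype.ext (Subtype.ext ?_)⟩
      show ((g * x * g⁻¹) ^ i) ^ (2 ^ 1) = 1
      rw [pow_one, ← zpow_natCast, ← zpow_mul, mul_comm, zpow_mul, zpow_natCast, conj_pow, hC.ea.2 x hxA]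
      simp
    obtain ⟨R', hR'⟩ := hp.exists_le_sylow
    obtain ⟨k, hk⟩ := MulAction.exists_smul_eq ↥K' R' R
    have hmem : k * ⟨_, hgx⟩ * k⁻¹ ∈ (R : Subgroup ↥K') := by
      rw [← hk, Sylow.coe_subgroup_smul]
      exact ⟨_, hR' (mem_zpowers _), rfl⟩
    have hA' : (k : X) * g * x * ((k : X) * g)⁻¹ ∈ A := hC.conj_mem hxA (by
      rw [show (k : X) * g * x * ((k : X) * g)⁻¹ = (k : X) * (g * x * g⁻¹) * (k : X)⁻¹ by group]
      exact (hR _).1 hmem)
    refine hxC (mem_centralizer_iff.2 fun v hv => ?_)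
    have hw : (k : X) * (g * v * g⁻¹) * (k : X)⁻¹ ∈ K' := mul_mem (mul_mem k.2 ⟨v, hv, rfl⟩) (inv_mem k.2)
    have h2 := mem_centralizer_iff.1 (hcon hA') _ hw
    rw [show (k : X) * g * x * ((k : X) * g)⁻¹ = (k : X) * (g * x * g⁻¹) * (k : X)⁻¹ by group,
      conj_mul, conj_mul, conj_mul, conj_mul] at h2
    exact mul_left_cancel (mul_right_cancel (mul_left_cancel (mul_right_cancel h2)))
  exact hle ⟨x, hx, rfl⟩

/-- The group is generated by the moved components and the normaliser of `A`. -/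
theorem gen : EA A ⊔ normalizer (A : Set X) = ⊤ := by
  classical
  haveI : Fact (Nat.Prime 2) := ⟨Nat.prime_two⟩
  haveI := hC.EA_normal
  haveI := FittingCores.pCore_normal (G := X) 2
  haveI := Components.layer_normal (G := X)
  set O := Cfsg.pCore 2 X with hO
  have hF : Cfsg.fittingSubgroup X = O := FittingCores.fitting_eq_pCore Nat.prime_two hC.core
  have hOT : O ≤ (T : Subgroup X) := PBasic.pCore_le_sylow T
  have hAO : ∀ g : X, ∀ v ∈ A, v ∈ O → g * v * g⁻¹ ∈ A := fun g v hv hvO =>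
    hC.conj_mem hv (hOT ((inferInstance : O.Normal).conj_mem v hvO g))
  -- the part centralising the layer lies in the 2-core
  have hA0 : A ⊓ centralizer (Cfsg.layer X : Set X) ≤ O := by
    let D : Subgroup X :=
      { carrier := {x | x ∈ centralizer (Cfsg.layer X : Set X) ∧ (∀ t ∈ O, x * t * x⁻¹ * t⁻¹ ∈ A ⊓ O) ∧
          ∀ v ∈ A ⊓ O, x * v * x⁻¹ = v}
        one_mem' := ⟨one_mem _, fun t _ => by simp, fun v _ => by simp⟩
        mul_mem' := fun {x y} hx hy => by
          refine ⟨mul_mem hx.1 hy.1, fun t ht => ?_, fun v hv => ?_⟩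
          · rw [show x * y * t * (x * y)⁻¹ * t⁻¹ = x * (y * t * y⁻¹ * t⁻¹) * x⁻¹ * (x * t * x⁻¹ * t⁻¹) by group,
              hx.2.2 _ (hy.2.1 t ht)]
            exact mul_mem (hy.2.1 t ht) (hx.2.1 t ht)
          · rw [show x * y * v * (x * y)⁻¹ = x * (y * v * y⁻¹) * x⁻¹ by group, hy.2.2 v hv, hx.2.2 v hv]
        inv_mem' := fun {x} hx => by
          refine ⟨inv_mem hx.1, fun t ht => ?_, fun v hv => ?_⟩
          · have ht' : x⁻¹ * t * x ∈ O := by simpa using (inferInstance : O.Normal).conj_mem t ht x⁻¹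
            have h1 := inv_mem (hx.2.1 _ ht')
            rwa [show (x * (x⁻¹ * t * x) * x⁻¹ * (x⁻¹ * t * x)⁻¹)⁻¹ = x⁻¹ * t * x⁻¹⁻¹ * t⁻¹ by group] at h1
          · conv_lhs => rw [← hx.2.2 v hv]
            group }
    haveI hDn : D.Normal := by
      refine ⟨fun x hx g => ⟨(inferInstance : (centralizer (Cfsg.layer X : Set X)).Normal).conj_mem x hx.1 g,
        fun t ht => ?_, fun v hv => ?_⟩⟩
      · have ht' : g⁻¹ * t * g ∈ O := by simpa using (inferInstance : O.Normal).conj_mem t ht g⁻¹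
        obtain ⟨h1, h2⟩ := mem_inf.1 (hx.2.1 _ ht')
        rw [show g * x * g⁻¹ * t * (g * x * g⁻¹)⁻¹ * t⁻¹ = g * (x * (g⁻¹ * t * g) * x⁻¹ * (g⁻¹ * t * g)⁻¹) * g⁻¹ by group]
        exact mem_inf.2 ⟨hAO g _ h1 h2, (inferInstance : O.Normal).conj_mem _ h2 g⟩
      · obtain ⟨h1, h2⟩ := mem_inf.1 hv
        have hv' : g⁻¹ * v * g ∈ A ⊓ O := mem_inf.2
          ⟨by simpa using hAO g⁻¹ v h1 h2, by simpa using (inferInstance : O.Normal).conj_mem v h2 g⁻¹⟩
        rw [show g * x * g⁻¹ * v * (g * x * g⁻¹)⁻¹ = g * (x * (g⁻¹ * v * g) * x⁻¹) * g⁻¹ by group, hx.2.2 _ hv']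
        group
    have hodd : ∀ x ∈ D, Odd (orderOf x) → x = 1 := by
      intro x hx hxo
      have hcO : ∀ t ∈ O, t * x = x * t := fun t ht => by
        set c := x * t * x⁻¹ * t⁻¹ with hc
        obtain ⟨hcA, -⟩ := mem_inf.1 (hx.2.1 t ht)
        have hxc : Commute x c := mul_inv_eq_iff_eq_mul.1 (hx.2.2 c (hx.2.1 t ht))
        have hn : ∀ i : ℕ, x ^ i * t * (x ^ i)⁻¹ = c ^ i * t := by
          intro i
          induction i with
          | zero => simp
          | succ i ih =>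
            calc x ^ (i + 1) * t * (x ^ (i + 1))⁻¹ = x * (x ^ i * t * (x ^ i)⁻¹) * x⁻¹ := by rw [pow_succ']; group
              _ = (x * c ^ i * x⁻¹) * (c * t) := by rw [ih, hc]; group
              _ = c ^ i * (c * t) := by rw [(hxc.pow_right i).eq, mul_inv_cancel_right]
              _ = c ^ (i + 1) * t := by rw [pow_succ]; group
        have h := hn (orderOf x)
        obtain ⟨j, hj⟩ := hxo
        have hc2 : c ^ 2 = 1 := hC.ea.2 c hcA
        rw [pow_orderOf_eq_one, hj, pow_succ, pow_mul, hc2, one_pow, one_mul] at h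
        have hc1 : c = 1 := by simpa using h.symm
        rw [hc, mul_inv_eq_one] at hc1
        exact ((mul_inv_eq_iff_eq_mul.1 hc1)).symm
      have hxc : x ∈ centralizer (Cfsg.generalizedFittingSubgroup X : Set X) := by
        rw [Cfsg.generalizedFittingSubgroup]
        refine (le_centralizer_iff.1 (sup_le (fun v hv => ?_) fun v hv => ?_)) (mem_zpowers x)
        · exact mem_centralizer_iff.2 fun c hc => by
            obtain ⟨i, rfl⟩ := mem_zpowers_iff.1 hc
            exact (Commute.zpow_left (show Commute x v from (mem_centralizer_iff.1 hx.1 v hv).symm) i).eq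
        · rw [hF] at hv
          exact mem_centralizer_iff.2 fun c hc => by
            obtain ⟨i, rfl⟩ := mem_zpowers_iff.1 hc
            exact (Commute.zpow_left (show Commute x v from (hcO v hv).symm) i).eq
      haveI := Components.generalizedFitting_normal (G := X)
      have hnil : Group.IsNilpotent ↥(centralizer (Cfsg.generalizedFittingSubgroup X : Set X)) := by
        refine Components.isNilpotent_of_commutator_le_center ?_
        intro v _
        refine mem_center_iff.2 fun w => Subtype.ext ?_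
        exact (mem_centralizer_iff.1 w.2 v (Components.centralizer_generalizedFitting_le v.2)).symm
      have hxO : x ∈ O := hF ▸ Components.le_fittingSubgroup inferInstance hnil hxc
      obtain ⟨k, hk⟩ := T.2 ⟨x, hOT hxO⟩
      have hk' : x ^ 2 ^ k = 1 := congrArg Subtype.val hk
      obtain ⟨j, -, hj⟩ := (Nat.dvd_prime_pow Nat.prime_two).1 (orderOf_dvd_of_pow_eq_one hk')
      rcases j with _ | j
      · exact orderOf_eq_one_iff.1 (by rw [hj, pow_zero])
      · exact absurd hxo (Nat.not_odd_iff_even.2 (by rw [hj, pow_succ]; exact even_two.mul_left _))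
    have hD2 : IsPGroup 2 D := by
      intro x
      obtain ⟨s, r, hr, hxs⟩ := Nat.exists_eq_pow_mul_and_not_dvd (orderOf_pos (x : X)).ne' 2 (by norm_num)
      refine ⟨s, Subtype.ext (hodd _ (pow_mem x.2 _) ?_)⟩
      rw [SubgroupClass.coe_pow, orderOf_pow, hxs, Nat.gcd_eq_right (dvd_mul_right _ _), Nat.mul_div_cancel_left _ (by positivity)]
      exact Nat.not_even_iff_odd.1 fun he => hr (even_iff_two_dvd.1 he)
    intro a ha
    obtain ⟨haA, haE⟩ := mem_inf.1 ha
    refine PBasic.le_pCore hDn hD2 ⟨haE, fun t ht => mem_inf.2 ⟨?_, ?_⟩, fun v hv => ?_⟩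
    · have := inv_mem (hC.comm_mem (hOT ht) haA)
      rwa [show (t * a * t⁻¹ * a⁻¹)⁻¹ = a * t * a⁻¹ * t⁻¹ by group] at this
    · exact mul_mem ((inferInstance : O.Normal).conj_mem t ht a) (inv_mem ht)
    · rw [hC.comm haA (mem_inf.1 hv).1, mul_inv_cancel_right]
  have hA : A ≤ (A ⊓ EA A) ⊔ (A ⊓ O) := by
    intro a ha
    have key : ∀ F : Finset {K : Subgroup X // Cfsg.IsComponent K ∧ ¬ A ≤ centralizer (K : Set X)},
        ∃ u ∈ A ⊓ EA A, ∀ K ∈ F, a * u ∈ centralizer ((K : Subgroup X) : Set X) := by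
      intro F
      induction F using Finset.induction_on with
      | empty => exact ⟨1, one_mem _, by simp⟩
      | insert K F hKF ih =>
        obtain ⟨u, hu, hF'⟩ := ih
        obtain ⟨v, hv, hv'⟩ := (hC.data K.2.1 K.2.2).dec (a * u) (mul_mem ha (mem_inf.1 hu).1)
        obtain ⟨hvA, hvK⟩ := mem_inf.1 hv
        refine ⟨u * v, mul_mem hu (mem_inf.2 ⟨hvA, hC.le_EA K.2.1 K.2.2 hvK⟩), fun L hL => ?_⟩
        rw [← mul_assoc]
        rcases Finset.mem_insert.1 hL with rfl | hL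
        · exact hv'
        · have hne : (K : Subgroup X) ≠ L := fun e => hKF (Subtype.ext e ▸ hL)
          exact mul_mem (hF' L hL)
            (commutator_eq_bot_iff_le_centralizer.1 (Components.components_commute K.2.1 L.2.1 hne) hvK)
    haveI : Fintype {K : Subgroup X // Cfsg.IsComponent K ∧ ¬ A ≤ centralizer (K : Set X)} := Fintype.ofFinite _
    obtain ⟨u, hu, hall⟩ := key Finset.univ
    have hw : a * u ∈ A ⊓ centralizer (Cfsg.layer X : Set X) := by
      refine mem_inf.2 ⟨mul_mem ha (mem_inf.1 hu).1, ?_⟩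
      refine (le_centralizer_iff.1 (Components.layer_le_iff.2 fun K hK => ?_)) (mem_zpowers (a * u))
      rw [le_centralizer_iff, zpowers_le]
      by_cases hKm : A ≤ centralizer (K : Set X)
      · exact hKm (mul_mem ha (mem_inf.1 hu).1)
      · exact hall ⟨K, hK, hKm⟩ (Finset.mem_univ _)
    rw [show a = (a * u) * u⁻¹ by group]
    exact mul_mem (mem_sup_right (mem_inf.2 ⟨(mem_inf.1 hw).1, hA0 hw⟩)) (mem_sup_left (inv_mem hu))
  rw [eq_top_iff]
  intro g _
  set E := EA A with hE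
  obtain ⟨R, hR⟩ : ∃ R : Sylow 2 ↥E, ∀ x : ↥E, x ∈ (R : Subgroup ↥E) ↔ (x : X) ∈ (T : Subgroup X) :=
    ⟨(T.2.comap_of_injective E.subtype E.subtype_injective).toSylow
      (show ¬ 2 ∣ ((T : Subgroup X).subgroupOf E).index from
        PTerm.sylow_inf_subnormal T.not_dvd_index (inferInstance : E.Normal).isSubnormal), fun x => Iff.rfl⟩
  have hp : IsPGroup 2 ↥(((T : Subgroup X).map (MulAut.conj g).toMonoidHom).subgroupOf E) :=
    (T.2.map _).comap_of_injective E.subtype E.subtype_injective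
  obtain ⟨R', hR'⟩ := hp.exists_le_sylow
  obtain ⟨e, he⟩ := MulAction.exists_smul_eq ↥E R' R
  have hy : (e : X) * g ∈ normalizer (A : Set X) := mem_normalizer_fintype fun a ha => by
    obtain ⟨u, hu, w, hw, rfl⟩ := (SolvBasic.mem_sup_iff_of_le_normalizer (N := A ⊓ E) (H := A ⊓ O)
      (fun w hw => mem_normalizer_fintype fun u hu => by
        rw [hC.comm (mem_inf.1 hw).1 (mem_inf.1 hu).1, mul_inv_cancel_right]; exact hu)).1 (hA ha)
    obtain ⟨huA, huE⟩ := mem_inf.1 hu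
    obtain ⟨hwA, hwO⟩ := mem_inf.1 hw
    rw [show (e : X) * g * (u * w) * ((e : X) * g)⁻¹ =
      ((e : X) * g * u * ((e : X) * g)⁻¹) * ((e : X) * g * w * ((e : X) * g)⁻¹) by group]
    refine mul_mem (hC.conj_mem huA ?_) (hAO _ w hwA hwO)
    have hgu : g * u * g⁻¹ ∈ E := (inferInstance : E.Normal).conj_mem u huE g
    have : e * ⟨_, hgu⟩ * e⁻¹ ∈ (R : Subgroup ↥E) := by
      rw [← he, Sylow.coe_subgroup_smul]
      exact ⟨⟨_, hgu⟩, hR' (mem_subgroupOf.2 ⟨u, hC.le huA, rfl⟩), rfl⟩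
    have h2 := (hR _).1 this
    simpa [mul_assoc] using h2
  rw [← inv_mul_cancel_left (e : X) g]
  exact mul_mem (mem_sup_left (inv_mem e.2)) (mem_sup_right hy)

end Cl

end Cfsg.Agent.Gold1169.Loc2
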