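import Cfsg.Agent.Lib.Gold1169.Setup
import Cfsg.Agent.Lib.Gold1169.Local.Moved
import Cfsg.Agent.Lib.Walter4.Gen

/-!
The centraliser of a 2-group `B` centralising `A`, modulo its odd core: the strongly closed subgroup, the
tori of the moved components, orthogonality, generation.
-/

set_option autoImplicit false
set_option linter.style.haveILetI false
set_option linter.unusedSectionVars false

namespace Cfsg.Agent.Gold1169

open Subgroup
open Cfsg.Agent.Walter4 (cen cenS ocen cor XB pre CA mem_pre)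
open Cfsg.Agent.OddDown.CoreSep (q im mem_im)
open scoped commutatorElement

universe u

attribute [local instance] FittingCores.pPrimeCore_normal

variable {G : Type u} [Group G] [Finite G] {S : Sylow 2 G} {A : Subgroup G}

namespace Setup

variable (hS : Setup S A)
include hS

/-- A 2-subgroup containing `A` normalises it. -/
theorem le_normalizer_of_two {P : Subgroup G} (hP : IsPGroup 2 P) (hAP : A ≤ P) :
    P ≤ normalizer (A : Set G) := by
  haveI : Fact (Nat.Prime 2) := ⟨Nat.prime_two⟩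
  obtain ⟨T, hT⟩ := hP.exists_le_sylow
  obtain ⟨k, hk⟩ := MulAction.exists_smul_eq G T S
  have hconj : ∀ x ∈ (T : Subgroup G), k * x * k⁻¹ ∈ (S : Subgroup G) := by
    intro x hx
    rw [← hk, Sylow.coe_subgroup_smul]
    exact ⟨x, hx, rfl⟩
  have hkA : k ∈ normalizer (A : Set G) := mem_normalizer_fintype fun a ha =>
    hS.closed.2 a ha k (hconj a (hT (hAP ha)))
  intro x hx
  have h1 := hS.S_le_normalizer (hconj x (hT hx))
  have := mul_mem (mul_mem (inv_mem hkA) h1) hkA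
  rwa [show k⁻¹ * (k * x * k⁻¹) * k = x by group] at this

/-- A conjugate of an element of `A` normalising `A` lies in `A`. -/
theorem closed' {a g : G} (ha : a ∈ A) (h : g * a * g⁻¹ ∈ normalizer (A : Set G)) : g * a * g⁻¹ ∈ A := by
  haveI : Fact (Nat.Prime 2) := ⟨Nat.prime_two⟩
  set x := g * a * g⁻¹ with hx
  have hx2 : IsPGroup 2 ↥(zpowers x) := by
    rintro ⟨v, hv⟩
    obtain ⟨i, rfl⟩ := mem_zpowers_iff.1 hv
    refine ⟨1, Subtype.ext ?_⟩
    show (x ^ i) ^ (2 ^ 1) = 1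
    rw [pow_one, ← zpow_natCast, ← zpow_mul, mul_comm, zpow_mul, zpow_natCast, hx, conj_pow, hS.ea.2 a ha]
    simp
  obtain ⟨T, hT⟩ := (hx2.to_sup_of_normal_right' hS.isPGroup (zpowers_le.2 h)).exists_le_sylow
  obtain ⟨k, hk⟩ := MulAction.exists_smul_eq G T S
  have hconj : ∀ v ∈ (T : Subgroup G), k * v * k⁻¹ ∈ (S : Subgroup G) := by
    intro v hv
    rw [← hk, Sylow.coe_subgroup_smul]
    exact ⟨v, hv, rfl⟩
  have hkA : k ∈ normalizer (A : Set G) := mem_normalizer_fintype fun v hv =>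
    hS.closed.2 v hv k (hconj v (hT (mem_sup_right hv)))
  have hk2 : k * g * a * (k * g)⁻¹ = k * x * k⁻¹ := by rw [hx]; group
  have h2 : k * x * k⁻¹ ∈ A := hk2 ▸ hS.closed.2 a ha (k * g)
    (hk2 ▸ hconj x (hT (mem_sup_left (mem_zpowers x))))
  exact (hS.conj_mem_iff hkA).2 h2

variable {B : Subgroup G} (hB : Loc A B)

theorem le_cenS_loc (hB : Loc A B) : A ≤ cenS B := le_centralizer_iff.1 hB.2.2

/-- An element of `A` with trivial image is trivial. -/
theorem eq_one_of_q (hB : Loc A B) {x : G} (hx : x ∈ A) (h : q (cenS B) ⟨x, hS.le_cenS_loc hB hx⟩ = 1) :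
    x = 1 :=
  haveI : Fact (Nat.Prime 2) := ⟨Nat.prime_two⟩
  PBasic.eq_one_of_isPGroup_of_coprime hS.isPGroup hx
    (PBasic.coprime_orderOf_of_mem (Walter4.cor_coprime B) ⟨_, (QuotientGroup.eq_one_iff _).1 h, rfl⟩)

theorem eq_of_q (hB : Loc A B) {x y : G} (hx : x ∈ A) (hy : y ∈ A)
    (h : q (cenS B) ⟨x, hS.le_cenS_loc hB hx⟩ = q (cenS B) ⟨y, hS.le_cenS_loc hB hy⟩) : x = y := by
  refine (inv_mul_eq_one.1 (hS.eq_one_of_q hB (mul_mem (inv_mem hx) hy) ?_))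
  show q (cenS B) (⟨x, hS.le_cenS_loc hB hx⟩⁻¹ * ⟨y, hS.le_cenS_loc hB hy⟩) = 1
  rw [map_mul, map_inv, h, inv_mul_cancel]

theorem cenS_lt (hB : Loc A B) : Nat.card (XB B) < Nat.card G := by
  refine lt_of_le_of_lt (Nat.le_of_dvd Nat.card_pos (Subgroup.card_quotient_dvd_card _)) ?_
  refine lt_of_le_of_ne (Nat.le_of_dvd Nat.card_pos (card_subgroup_dvd_card _)) fun h => ?_
  obtain ⟨b, hb, hb1⟩ := B.bot_or_exists_ne_one.resolve_left hB.2.1
  refine hS.cen_ne_top hb1 (top_le_iff.1 ?_)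
  rw [← Subgroup.eq_top_of_card_eq _ h]
  exact centralizer_le (Set.singleton_subset_iff.2 hb)

/-- The hypotheses in `C(B) ⧸ O(C(B))`. -/
theorem exists_cl (hB : Loc A B) : ∃ T : Sylow 2 (XB B), Loc2.Cl T (im (cenS B) A) := by
  haveI : Fact (Nat.Prime 2) := ⟨Nat.prime_two⟩
  set H := cenS B with hH
  have hAH := hS.le_cenS_loc hB
  obtain ⟨TH, hTH⟩ := (hS.isPGroup.comap_of_injective H.subtype H.subtype_injective).exists_le_sylow
  have hTN : ∀ t : ↥H, t ∈ (TH : Subgroup ↥H) → (t : G) ∈ normalizer (A : Set G) := fun t ht =>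
    hS.le_normalizer_of_two (TH.2.map H.subtype) (fun a ha => ⟨⟨a, hAH ha⟩, hTH ha, rfl⟩) ⟨t, ht, rfl⟩
  have hsurj : Function.Surjective (q H) := QuotientGroup.mk'_surjective _
  refine ⟨TH.mapSurjective hsurj, ?_⟩
  refine ⟨Components.pPrimeCore_quotient ↥H, ⟨⟨⟨fun a b => Subtype.ext ?_⟩⟩, ?_⟩, ⟨map_mono hTH, ?_⟩, ?_, hS.kind⟩
  · obtain ⟨x, hx, hxa⟩ := a.2
    obtain ⟨y, hy, hyb⟩ := b.2
    show (a : XB B) * b = b * a
    rw [← hxa, ← hyb, ← map_mul, ← map_mul]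
    exact congrArg _ (Subtype.ext (hS.comm hx hy))
  · rintro _ ⟨x, hx, rfl⟩
    rw [← map_pow]
    convert map_one (q H) using 2
    exact Subtype.ext (by simpa using hS.ea.2 (x : G) hx)
  · rintro _ ⟨x, hx, rfl⟩ g hg
    obtain ⟨y, rfl⟩ := hsurj g
    rw [← map_inv, ← map_mul, ← map_mul] at hg ⊢
    set z := y * x * y⁻¹ with hz
    obtain ⟨t, ht, hte⟩ := hg
    set M := (TH : Subgroup ↥H) ⊔ Cfsg.pPrimeCore 2 ↥H with hM
    have hzM : z ∈ M := by
      rw [← mul_inv_cancel_left t z]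
      exact mul_mem (mem_sup_left ht) (mem_sup_right (QuotientGroup.eq.1 hte))
    have hp : IsPGroup 2 ↥(zpowers (⟨z, hzM⟩ : ↥M)) := by
      rintro ⟨v, hv⟩
      obtain ⟨i, rfl⟩ := mem_zpowers_iff.1 hv
      refine ⟨1, Subtype.ext (Subtype.ext ?_)⟩
      show (z ^ i) ^ (2 ^ 1) = 1
      rw [pow_one, ← zpow_natCast, ← zpow_mul, mul_comm, zpow_mul, zpow_natCast, hz, conj_pow,
        show x ^ 2 = 1 from Subtype.ext (by simpa using hS.ea.2 (x : G) hx)]
      simp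
    obtain ⟨R, hR⟩ := hp.exists_le_sylow
    have hTM : (TH : Subgroup ↥H) ≤ M := le_sup_left
    obtain ⟨m, hm⟩ := MulAction.exists_smul_eq ↥M R (TH.subtype hTM)
    obtain ⟨t', ht', o, ho, hmo⟩ := (SolvBasic.mem_sup_iff_of_le_normalizer
      (N := Cfsg.pPrimeCore 2 ↥H) (H := (TH : Subgroup ↥H)) le_normalizer_of_normal).1
        (show (m : ↥H) ∈ Cfsg.pPrimeCore 2 ↥H ⊔ (TH : Subgroup ↥H) from sup_comm (TH : Subgroup ↥H) _ ▸ m.2)
    have hmz : (m : ↥H) * z * (m : ↥H)⁻¹ ∈ (TH : Subgroup ↥H) := by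
      have : m * ⟨z, hzM⟩ * m⁻¹ ∈ ((TH.subtype hTM : Sylow 2 ↥M) : Subgroup ↥M) := by
        rw [← hm, Sylow.coe_subgroup_smul]
        exact ⟨_, hR (mem_zpowers _), rfl⟩
      rw [Sylow.coe_subtype] at this
      exact this
    -- conjugating by an element of the core puts `z` into `TH`
    have hoz : ∃ c ∈ Cfsg.pPrimeCore 2 ↥H, c * z * c⁻¹ ∈ (TH : Subgroup ↥H) := by
      refine ⟨o⁻¹ * (m : ↥H), ?_, ?_⟩
      · rw [hmo]
        exact QuotientGroup.eq.1 (by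
          show ((o : ↥H) : XB B) = ((t' * o : ↥H) : XB B)
          rw [QuotientGroup.mk_mul, (QuotientGroup.eq_one_iff t').2 ht', one_mul])
      · rw [show o⁻¹ * (m : ↥H) * z * (o⁻¹ * (m : ↥H))⁻¹ = o⁻¹ * ((m : ↥H) * z * (m : ↥H)⁻¹) * o⁻¹⁻¹ by group]
        exact mul_mem (mul_mem (inv_mem ho) hmz) (inv_mem (inv_mem ho))
    obtain ⟨c, hc, hcz⟩ := hoz
    have hmem : c * z * c⁻¹ ∈ A.subgroupOf H := by
      have e : ((c * z * c⁻¹ : ↥H) : G) = ((c : G) * y) * (x : G) * ((c : G) * y)⁻¹ := by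
        rw [hz]; simp [mul_assoc]
      rw [mem_subgroupOf, e]
      exact hS.closed' hx (e ▸ hTN _ hcz)
    refine ⟨c * z * c⁻¹, hmem, ?_⟩
    have h1 : q H c = 1 := (QuotientGroup.eq_one_iff c).2 hc
    rw [map_mul, map_mul, map_inv, h1, one_mul, inv_one, mul_one]
  · intro Y _ _ hY hYs hYc R C hC hCea hCsc
    exact hS.ind Y (hY.trans_lt (hS.cenS_lt hB)) hYs hYc R C hC hCea hCsc

/-- Membership in `CA` in terms of images. -/
theorem mem_CA (hB : Loc A B) {L : Subgroup (XB B)} {a : G} (ha : a ∈ A) :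
    a ∈ CA A B L ↔ q (cenS B) ⟨a, hS.le_cenS_loc hB ha⟩ ∈ centralizer (L : Set (XB B)) :=
  ⟨fun h => (mem_pre.1 h.2).2, fun h => ⟨ha, mem_pre.2 ⟨_, h⟩⟩⟩

theorem moved_iff {L : Subgroup (XB B)} :
    ¬ L ≤ centralizer (im (cenS B) A : Set (XB B)) ↔ ¬ im (cenS B) A ≤ centralizer (L : Set (XB B)) := by
  rw [le_centralizer_iff]

theorem normal_comp (hB : Loc A B) {L : Subgroup (XB B)} (hL : Cfsg.IsComponent L) :
    im (cenS B) A ≤ normalizer (L : Set (XB B)) := by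
  obtain ⟨T, hT⟩ := hS.exists_cl hB
  exact hT.le_normalizer_component hL

/-- The torus of a moved component. -/
theorem exists_torus (hB : Loc A B) {L : Subgroup (XB B)} (hM : Moved A B L) : ∃ U h, Torus A B L U h := by
  haveI : Fact (Nat.Prime 2) := ⟨Nat.prime_two⟩
  obtain ⟨T, hT⟩ := hS.exists_cl hB
  have hD := hT.data hM.1 ((hS.moved_iff).1 hM.2)
  obtain ⟨hb, hbL, hbN, hbo, hbfix, hbtr, hbfree⟩ := hD.torus
  set H := cenS B with hH
  have hAH := hS.le_cenS_loc hB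
  obtain ⟨n, hn, rfl⟩ := (Components.map_normalizer_eq (FittingCores.pPrimeCore_coprime 2)
    (hS.isPGroup.comap_of_injective H.subtype H.subtype_injective)).ge hbN
  -- a power of odd order
  obtain ⟨s, r, hr, hns⟩ := Nat.exists_eq_pow_mul_and_not_dvd (orderOf_pos n).ne' 2 (by norm_num)
  obtain ⟨m, hm1, hm2⟩ := Nat.chineseRemainder ((Nat.prime_two.coprime_iff_not_dvd.2 hr).pow_left s) 0 1
  set g := n ^ m with hg
  have hgodd : Odd (orderOf (g : G)) := by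
    obtain ⟨c, hc⟩ : 2 ^ s ∣ m := Nat.modEq_zero_iff_dvd.1 hm1
    rw [Subgroup.orderOf_coe, hg, hc, pow_mul]
    refine (Nat.not_even_iff_odd.1 fun he => hr ((even_iff_two_dvd.1 he).trans ?_))
    refine (orderOf_pow_dvd c).trans ?_
    rw [orderOf_pow, hns, Nat.gcd_eq_right (dvd_mul_right _ _), Nat.mul_div_cancel_left _ (by positivity)]
  have hgq : q H g = q H n := by
    rw [hg, map_pow]
    have hd : orderOf (q H n) ∣ r := by
      have h1 := hns ▸ orderOf_map_dvd (q H) n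
      exact ((Nat.coprime_two_right.2 hbo).pow_right s).dvd_of_dvd_mul_left h1
    exact (pow_eq_pow_iff_modEq.2 (hm2.of_dvd hd)).trans (pow_one _)
  have hgA : (g : G) ∈ normalizer (A : Set G) := mem_normalizer_fintype fun a ha =>
    (mem_normalizer_iff.1 (pow_mem hn m) (⟨a, hAH ha⟩ : ↥H)).1 ha
  set k := (g : G) with hk
  have hkC : ∀ i : ℕ, k ^ i ∈ cenS B := fun i => pow_mem g.2 i
  have hconj : ∀ (i : ℕ) {a : G}, a ∈ A → k ^ i * a * (k ^ i)⁻¹ ∈ A := fun i a ha =>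
    (mem_normalizer_iff.1 (pow_mem hgA i) a).1 ha
  have hqc : ∀ (i : ℕ) {a : G} (ha : a ∈ A), q H ⟨k ^ i * a * (k ^ i)⁻¹, hAH (hconj i ha)⟩ =
      (q H n) ^ i * q H ⟨a, hAH ha⟩ * ((q H n) ^ i)⁻¹ := by
    intro i a ha
    rw [← hgq, ← map_pow, ← map_inv, ← map_mul, ← map_mul]
    rfl
  set P := zpowers k with hP
  haveI : IsMulCommutative ↥A := hS.ea.1
  have hPA : P ≤ normalizer (A : Set G) := zpowers_le.2 hgA
  have hcop : (Nat.card P).Coprime (Nat.card A) := by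
    obtain ⟨j, hj⟩ := IsPGroup.iff_card.1 hS.isPGroup
    rw [hj, Nat.card_zpowers]
    exact (Nat.coprime_two_right.2 hgodd).pow_right j
  set U := ⁅A, P⁆ with hU
  have hUA : U ≤ A := CoprimeAct.commutator_le_left hPA
  have hfixCA : ∀ a ∈ A, (k * a = a * k ↔ a ∈ CA A B L) := by
    intro a ha
    rw [hS.mem_CA hB ha]
    constructor
    · intro h
      refine hbfix _ (mem_im ha _) ?_
      rw [← hgq, ← map_inv, ← map_mul, ← map_mul]
      exact congrArg _ (Subtype.ext (show k * a * k⁻¹ = a by rw [h, mul_inv_cancel_right]))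
    · intro h
      have hka : k * a * k⁻¹ ∈ A := (mem_normalizer_iff.1 hgA a).1 ha
      refine mul_inv_eq_iff_eq_mul.1 (hS.eq_of_q hB hka ha ?_)
      show q H (g * ⟨a, hAH ha⟩ * g⁻¹) = q H ⟨a, hAH ha⟩
      rw [map_mul, map_mul, map_inv, hgq, mem_centralizer_iff.1 h _ hbL, mul_inv_cancel_right]
  have hCeq : A ⊓ centralizer (P : Set G) = CA A B L := by
    refine le_antisymm (fun a ha => ?_) fun a ha => ?_
    · obtain ⟨haA, haP⟩ := mem_inf.1 ha
      exact (hfixCA a haA).1 (mem_centralizer_iff.1 haP k (mem_zpowers k))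
    · refine mem_inf.2 ⟨ha.1, mem_centralizer_iff.2 fun v hv => ?_⟩
      obtain ⟨i, rfl⟩ := mem_zpowers_iff.1 hv
      exact (Commute.zpow_left (show Commute k a from (hfixCA a ha.1).2 ha) i).eq
  have hinf : U ⊓ CA A B L = ⊥ := by
    rw [← hCeq, inf_comm]
    exact CoprimeAct.centralizer_inf_commutator_eq_bot hPA hcop
  have hsup : U ⊔ CA A B L = A := by
    rw [← hCeq, sup_comm]
    exact CoprimeAct.centralizer_sup_commutator hPA hcop
  have hdecU : ∀ a ∈ A, ∃ v ∈ U, ∃ w ∈ CA A B L, a = v * w := fun a ha => by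
    obtain ⟨v, hv, w, hw, he⟩ := (SolvBasic.mem_sup_iff_of_le_normalizer (N := U) (H := CA A B L)
      (inf_le_left.trans ((hS.le_cenS hUA).trans (centralizer_le_normalizer _)))).1 (hsup.ge ha)
    exact ⟨v, hv, w, hw, he⟩
  have hnotC : ∀ x ∈ U, x ≠ 1 → x ∉ CA A B L := fun x hx h1 hC =>
    h1 (mem_bot.1 (hinf ▸ mem_inf.2 ⟨hx, hC⟩))
  have hUn : ∀ i : ℕ, ∀ x ∈ U, k ^ i * x * (k ^ i)⁻¹ ∈ U := fun i x hx =>
    (mem_normalizer_iff.1 (normalizer_commutator_ge_right A P (pow_mem (mem_zpowers k) i)) x).1 hx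
  have hcoset : ∀ (i : ℕ) (x : G) (hx : x ∈ U) (y : G) (hy : y ∈ U),
      (q H n) ^ i * q H ⟨x, hAH (hUA hx)⟩ * ((q H n) ^ i)⁻¹ * (q H ⟨y, hAH (hUA hy)⟩)⁻¹ ∈
        centralizer (L : Set (XB B)) → k ^ i * x * (k ^ i)⁻¹ = y := by
    intro i x hx y hy h
    refine mul_inv_eq_one.1 (mem_bot.1 (hinf ▸ mem_inf.2 ⟨mul_mem (hUn i x hx) (inv_mem hy), ?_⟩))
    rw [hS.mem_CA hB (mul_mem (hUA (hUn i x hx)) (inv_mem (hUA hy)))]
    rw [← hqc i (hUA hx), ← map_inv, ← map_mul] at h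
    exact h
  refine ⟨U, k, ⟨mem_pre.2 ⟨g.2, ?_⟩, hgA, hgodd, hUA, rfl, ?_, hinf, hsup, ?_, ?_, ?_,
    fun x hx hx1 y hy hy1 => ?_, fun i x hx hx1 he y hy => ?_⟩⟩
  · show q H g ∈ L
    rw [hgq]; exact hbL
  · rw [hU, commutator_le]
    intro a ha v hv
    obtain ⟨i, rfl⟩ : ∃ i : ℕ, k ^ i = v := mem_powers_iff_mem_zpowers.2 hv
    have hm : ⁅a, k ^ i⁆ ∈ A := hUA (commutator_mem_commutator ha hv)
    refine mem_pre.2 ⟨hAH hm, ?_⟩
    have e : q H ⟨⁅a, k ^ i⁆, hAH hm⟩ =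
        (q H ⟨a, hAH ha⟩ * (q H n) ^ i * (q H ⟨a, hAH ha⟩)⁻¹) * ((q H n) ^ i)⁻¹ := by
      rw [← hgq, ← map_pow, ← map_inv, ← map_inv, ← map_mul, ← map_mul, ← map_mul]
      rfl
    rw [e]
    exact mul_mem ((mem_normalizer_iff.1 (hS.normal_comp hB hM.1 (mem_im ha _)) _).1 (pow_mem hbL i))
      (inv_mem (pow_mem hbL i))
  · obtain ⟨_, ⟨⟨x, hxH⟩, hx, rfl⟩, _, ⟨⟨y, hyH⟩, hy, rfl⟩, hxC, hyC, hxyC⟩ := hD.two
    obtain ⟨v, hv, w, hw, rfl⟩ := hdecU x hx
    obtain ⟨v', hv', w', hw', rfl⟩ := hdecU y hy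
    have hnot : ∀ {z : G} (hz : z ∈ H), q H ⟨z, hz⟩ ∉ centralizer (L : Set (XB B)) → z ∉ CA A B L :=
      fun hz h hC => h (mem_pre.1 hC.2).2
    have hne1 : v ≠ 1 := fun e => hnot hxH hxC (by rw [e, one_mul]; exact hw)
    have hne2 : v' ≠ 1 := fun e => hnot hyH hyC (by rw [e, one_mul]; exact hw')
    have hne3 : v * v' ≠ 1 := fun e => hnot (mul_mem hxH hyH) (show _ ∉ _ by rw [← map_mul] at hxyC; exact hxyC) (by
      rw [mul_assoc v w, ← mul_assoc w, hS.comm hw.1 (hUA hv'), mul_assoc v', ← mul_assoc v, e, one_mul]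
      exact mul_mem hw hw')
    have hne4 : v ≠ v' := fun e => hne3 (by rw [← e]; exact hS.sq (hUA hv))
    have h3 : ({1, v, v', v * v'} : Set G).ncard = 4 := by
      rw [Set.ncard_insert_of_notMem, Set.ncard_insert_of_notMem, Set.ncard_pair]
      · intro e; exact hne1 (by simpa using e)
      · simp only [Set.mem_insert_iff, Set.mem_singleton_iff, not_or]
        exact ⟨hne4, fun e => hne2 (by simpa using e)⟩
      · simp only [Set.mem_insert_iff, Set.mem_singleton_iff, not_or]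
        exact ⟨hne1.symm, hne2.symm, hne3.symm⟩
    have hsub : ({1, v, v', v * v'} : Set G) ⊆ (U : Set G) := by
      rintro z (rfl | rfl | rfl | rfl)
      exacts [one_mem _, hv, hv', mul_mem hv hv']
    have := Set.ncard_le_ncard hsub
    rw [h3, ← Nat.card_coe_set_eq] at this
    exact this
  · exact fun w hw => (hfixCA w hw.1).2 hw
  · exact normalizer_commutator_ge_right A P (mem_zpowers k)
  · have hnC : ∀ {z : G} (hz : z ∈ U), z ≠ 1 → q H ⟨z, hAH (hUA hz)⟩ ∉ centralizer (L : Set (XB B)) :=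
      fun hz hz1 h => hnotC _ hz hz1 ((hS.mem_CA hB (hUA hz)).2 h)
    obtain ⟨i, hi⟩ := hbtr _ (mem_im (hUA hx) (hAH (hUA hx))) (hnC hx hx1) _
      (mem_im (hUA hy) (hAH (hUA hy))) (hnC hy hy1)
    exact ⟨i, hcoset i x hx y hy hi⟩
  · have hnC : q H ⟨x, hAH (hUA hx)⟩ ∉ centralizer (L : Set (XB B)) :=
      fun h => hnotC _ hx hx1 ((hS.mem_CA hB (hUA hx)).2 h)
    refine hcoset i y hy y hy (hbfree i _ (mem_im (hUA hx) (hAH (hUA hx))) hnC ?_ _ (mem_im (hUA hy) (hAH (hUA hy))))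
    rw [← hqc i (hUA hx), ← map_inv, ← map_mul]
    convert one_mem (centralizer (L : Set (XB B)))
    convert map_one (q H) using 2
    exact Subtype.ext (show k ^ i * x * (k ^ i)⁻¹ * x⁻¹ = 1 by rw [he, mul_inv_cancel])

/-- Distinct moved components are orthogonal. -/
theorem orth_comp (hB : Loc A B) {L M : Subgroup (XB B)} (hL : Moved A B L) (hM : Cfsg.IsComponent M)
    (hne : L ≠ M) {U : Subgroup G} {h : G} (hT : Torus A B L U h) : U ≤ CA A B M := by
  rw [hT.eq, commutator_le]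
  intro a ha v hv
  have hvL : v ∈ pre B L := zpowers_le.2 hT.mem hv
  obtain ⟨hvB, hvq⟩ := mem_pre.1 hvL
  have hm : ⁅a, v⁆ ∈ A := hT.le (hT.eq.ge (commutator_mem_commutator ha hv))
  rw [hS.mem_CA hB hm]
  have hc := commutator_eq_bot_iff_le_centralizer.1 (Components.components_commute hL.1 hM hne)
  have e : q (cenS B) ⟨⁅a, v⁆, hS.le_cenS_loc hB hm⟩ =
      q (cenS B) ⟨a, hS.le_cenS_loc hB ha⟩ * q (cenS B) ⟨v, hvB⟩ *
        (q (cenS B) ⟨a, hS.le_cenS_loc hB ha⟩)⁻¹ * (q (cenS B) ⟨v, hvB⟩)⁻¹ := by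
    rw [← map_inv, ← map_inv, ← map_mul, ← map_mul, ← map_mul]
    rfl
  rw [e]
  refine mul_mem ((mem_normalizer_iff.1 ?_ _).1 (hc hvq)) (inv_mem (hc hvq))
  exact LELarge.normalizer_le_normalizer_centralizer M (hS.normal_comp hB hM (mem_im ha _))

/-- Generation. -/
theorem gen_loc (hB : Loc A B) :
    cenS B ≤ cor B ⊔ layA A B ⊔ (normalizer (A : Set G) ⊓ cenS B) := by
  haveI : Fact (Nat.Prime 2) := ⟨Nat.prime_two⟩
  obtain ⟨T, hT⟩ := hS.exists_cl hB
  set Y := cor B ⊔ layA A B ⊔ (normalizer (A : Set G) ⊓ cenS B) with hY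
  refine Walter4.le_of_map_le le_rfl (le_sup_left.trans le_sup_left) ?_
  have hE : Loc2.Cl.EA (im (cenS B) A) ≤ im (cenS B) Y := by
    refine iSup_le fun K x hx => ?_
    obtain ⟨⟨y, hy⟩, rfl⟩ := QuotientGroup.mk'_surjective _ x
    refine mem_im (le_sup_left (b := normalizer (A : Set G) ⊓ cenS B) (le_sup_right (a := cor B) ?_)) hy
    exact (le_iSup (fun L : {L : Subgroup (XB B) // Moved A B L} => pre B (L : Subgroup (XB B)))
      ⟨K, K.2.1, hS.moved_iff.2 K.2.2⟩ : pre B (K : Subgroup (XB B)) ≤ layA A B) (mem_pre.2 ⟨hy, hx⟩)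
  have hN : normalizer (im (cenS B) A : Set (XB B)) ≤ im (cenS B) Y := by
    intro y hy
    obtain ⟨⟨n, hnH⟩, hn, rfl⟩ := (Components.map_normalizer_eq (FittingCores.pPrimeCore_coprime 2)
      (hS.isPGroup.comap_of_injective (cenS B).subtype (cenS B).subtype_injective)).ge hy
    refine mem_im ((le_sup_right : normalizer (A : Set G) ⊓ cenS B ≤ Y) ⟨?_, hnH⟩) hnH
    exact mem_normalizer_fintype fun a ha =>
      (mem_normalizer_iff.1 hn (⟨a, hS.le_cenS_loc hB ha⟩ : ↥(cenS B))).1 ha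
  intro x _
  exact (sup_le hE hN) (hT.gen ▸ mem_top x)

end Setup

end Cfsg.Agent.Gold1169
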