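import Cfsg.Agent.Lib.Gold1169.Base
import Cfsg.Agent.Lib.Components.FStar
import Cfsg.Agent.Lib.Components.PTerminalPerfect
import Cfsg.Agent.Lib.Components.Local
import Cfsg.Agent.Lib.Walter4.Struct
import Cfsg.Agent.Lib.LocalEven.Large
import Cfsg.Agent.S0215
import Cfsg.Agent.S0205

/-!
A group with trivial odd core and a strongly closed elementary abelian subgroup `A` of a Sylow
2-subgroup: `A` normalises every component and meets each component it does not centralise outside the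
centre; the components it does not centralise and the normaliser of `A` generate the group.
-/

set_option autoImplicit false
set_option linter.style.haveILetI false
set_option linter.unusedSectionVars false

namespace Cfsg.Agent.Gold1169.Loc2

open Subgroup
open scoped commutatorElement

universe u

variable {X : Type u} [Group X]

/-- The hypotheses on the group. -/
structure Cl [Finite X] (T : Sylow 2 X) (A : Subgroup X) : Prop where
  core : Cfsg.pPrimeCore 2 X = ⊥
  ea : Cfsg.IsElementaryAbelian 2 A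
  closed : Cfsg.IsStronglyClosed A (T : Subgroup X)
  known : ∀ (Y : Type u) [Group Y] [Finite Y], Nat.card Y ≤ Nat.card X → IsSimpleGroup Y → ¬ IsMulCommutative Y →
    ∀ (R : Sylow 2 Y) (B : Subgroup Y), B ≠ ⊥ → Cfsg.IsElementaryAbelian 2 B →
      Cfsg.IsStronglyClosed B (R : Subgroup Y) → Walter4.Good Y ∨ ∃ H : Subgroup Y, Cfsg.IsStronglyEmbedded H
  kind : KindStmt.{u}

/-- An element acting trivially on a quasisimple group modulo its centre centralises it. -/
theorem centralizes_of_mod_center {L : Subgroup X} (hL : Cfsg.IsQuasisimple ↥L) {a : X}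
    (h : ∀ k ∈ L, a * k * a⁻¹ * k⁻¹ ∈ L ⊓ centralizer (L : Set X)) : a ∈ centralizer (L : Set X) := by
  let C : Subgroup X :=
    { carrier := {k | a * k = k * a}
      one_mem' := by show a * 1 = 1 * a; group
      mul_mem' := fun {x y} hx hy => by
        show a * (x * y) = x * y * a
        rw [← mul_assoc, show a * x = x * a from hx, mul_assoc, show a * y = y * a from hy, mul_assoc]
      inv_mem' := fun {x} hx => (Commute.inv_right (show Commute a x from hx)).eq }
  have hle : L ≤ C := by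
    refine (Components.quasisimple_commutator_eq hL).ge.trans (commutator_le.2 fun x hx y hy => ?_)
    show a * ⁅x, y⁆ = ⁅x, y⁆ * a
    obtain ⟨-, hzx⟩ := mem_inf.1 (h x hx)
    obtain ⟨-, hzy⟩ := mem_inf.1 (h y hy)
    set z := a * x * a⁻¹ * x⁻¹ with hz
    set w := a * y * a⁻¹ * y⁻¹ with hw
    have ex : a * x * a⁻¹ = z * x := by rw [hz]; group
    have ey : a * y * a⁻¹ = w * y := by rw [hw]; group
    have hzc : ∀ v ∈ L, Commute z v := fun v hv => (mem_centralizer_iff.1 hzx v hv).symm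
    have hwc : ∀ v ∈ L, Commute w v := fun v hv => (mem_centralizer_iff.1 hzy v hv).symm
    have hwL : w ∈ L := (mem_inf.1 (h y hy)).1
    rw [← mul_inv_eq_iff_eq_mul]
    calc a * ⁅x, y⁆ * a⁻¹ = (a * x * a⁻¹) * (a * y * a⁻¹) * (a * x * a⁻¹)⁻¹ * (a * y * a⁻¹)⁻¹ := by
          rw [commutatorElement_def]; group
      _ = z * (x * (w * y) * x⁻¹) * z⁻¹ * (w * y)⁻¹ := by rw [ex, ey]; group
      _ = x * (w * y) * x⁻¹ * (w * y)⁻¹ := by
          rw [(hzc _ (mul_mem (mul_mem hx (mul_mem hwL hy)) (inv_mem hx))).eq, mul_inv_cancel_right]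
      _ = (w * x) * y * x⁻¹ * y⁻¹ * w⁻¹ := by
          rw [← mul_assoc x w y, ← (hwc x hx).eq]; group
      _ = w * ⁅x, y⁆ * w⁻¹ := by rw [commutatorElement_def]; group
      _ = ⁅x, y⁆ := by
          rw [(hwc _ (by rw [commutatorElement_def]; exact mul_mem (mul_mem (mul_mem hx hy) (inv_mem hx)) (inv_mem hy))).eq,
            mul_inv_cancel_right]
  exact mem_centralizer_iff.2 fun k hk => (show a * k = k * a from hle hk).symm

namespace Cl

variable [Finite X] {T : Sylow 2 X} {A : Subgroup X} (hC : Cl T A)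
include hC

theorem le : A ≤ (T : Subgroup X) := hC.closed.1

theorem comm {a b : X} (ha : a ∈ A) (hb : b ∈ A) : a * b = b * a :=
  Signalizer.ea_comm hC.ea ha hb

theorem sq {a : X} (ha : a ∈ A) : a * a = 1 := by rw [← pow_two]; exact hC.ea.2 a ha

theorem inv_eq {a : X} (ha : a ∈ A) : a⁻¹ = a := inv_eq_of_mul_eq_one_right (hC.sq ha)

theorem conj_mem {a : X} (ha : a ∈ A) {g : X} (h : g * a * g⁻¹ ∈ (T : Subgroup X)) : g * a * g⁻¹ ∈ A :=
  hC.closed.2 a ha g h

theorem comm_mem {t a : X} (ht : t ∈ (T : Subgroup X)) (ha : a ∈ A) : t * a * t⁻¹ * a⁻¹ ∈ A :=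
  mul_mem (hC.conj_mem ha (mul_mem (mul_mem ht (hC.le ha)) (inv_mem ht))) (inv_mem ha)

variable {K : Subgroup X} (hK : Cfsg.IsComponent K)

/-- The centre of a component is a 2-group in every Sylow subgroup. -/
theorem center_le (hK : Cfsg.IsComponent K) (R : Sylow 2 ↥K) :
    center ↥K ≤ (R : Subgroup ↥K) ∧ IsPGroup 2 ↥(center ↥K) := by
  haveI : Fact (Nat.Prime 2) := ⟨Nat.prime_two⟩
  have hp : IsPGroup 2 ↥(center ↥K) := by
    intro z
    obtain ⟨s, r, hr, hzs⟩ := Nat.exists_eq_pow_mul_and_not_dvd (orderOf_pos z).ne' 2 (by norm_num)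
    refine ⟨s, ?_⟩
    have hy : orderOf (z ^ 2 ^ s) = r := by
      rw [orderOf_pow, hzs, Nat.gcd_eq_right (dvd_mul_right _ _), Nat.mul_div_cancel_left _ (by positivity)]
    set y := z ^ 2 ^ s with hydef
    haveI : (zpowers (y : ↥K)).Normal := ⟨fun v hv g => by
      obtain ⟨i, rfl⟩ := mem_zpowers_iff.1 hv
      have hc : g * (y : ↥K) ^ i = (y : ↥K) ^ i * g := ((Commute.zpow_right (show Commute g (y : ↥K) from mem_center_iff.1 y.2 g) i)).eq
      rw [hc, mul_inv_cancel_right]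
      exact zpow_mem_zpowers _ i⟩
    have hsn : ((zpowers (y : ↥K)).map K.subtype).IsSubnormal :=
      (inferInstance : (zpowers (y : ↥K)).Normal).isSubnormal.trans' hK.1
    have hle := Components.subnormal_le_pPrimeCore (p := 2) hsn (by
      rw [card_map_of_injective K.subtype_injective, Nat.card_zpowers, Subgroup.orderOf_coe, hy]
      exact (Nat.prime_two.coprime_iff_not_dvd.2 hr).symm)
    rw [hC.core] at hle
    exact Subtype.ext (Subtype.ext (mem_bot.1 (hle (mem_map_of_mem _ (mem_zpowers _)))))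
  refine ⟨?_, hp⟩
  have h := R.is_maximal' (IsPGroup.to_sup_of_normal_left' hp R.2 le_normalizer_of_normal) le_sup_right
  exact h ▸ le_sup_left

theorem exists_sylow_component (hK : Cfsg.IsComponent K) :
    ∃ R : Sylow 2 ↥K, ∀ x : ↥K, x ∈ (R : Subgroup ↥K) ↔ (x : X) ∈ (T : Subgroup X) := by
  haveI : Fact (Nat.Prime 2) := ⟨Nat.prime_two⟩
  exact ⟨(T.2.comap_of_injective K.subtype K.subtype_injective).toSylow
    (show ¬ 2 ∣ ((T : Subgroup X).subgroupOf K).index from PTerm.sylow_inf_subnormal T.not_dvd_index hK.1), fun x => Iff.rfl⟩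

/-- A component has an element of `T` outside the centre with a conjugate in `T` differing from it by a
non-central element. -/
theorem not_isolated (hK : Cfsg.IsComponent K) :
    ∃ x ∈ K, x ∈ (T : Subgroup X) ∧ ∃ g ∈ K, g * x * g⁻¹ ∈ (T : Subgroup X) ∧
      g * x * g⁻¹ * x⁻¹ ∉ centralizer (K : Set X) := by
  haveI : Fact (Nat.Prime 2) := ⟨Nat.prime_two⟩
  obtain ⟨R, hR⟩ := hC.exists_sylow_component hK
  obtain ⟨hZR, hZ2⟩ := hC.center_le hK R
  haveI hsimp : IsSimpleGroup (↥K ⧸ center ↥K) := hK.2.2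
  let π := QuotientGroup.mk' (center ↥K)
  have hπ : Function.Surjective π := QuotientGroup.mk'_surjective _
  let Rb := R.mapSurjective hπ
  have hnonab : ¬ IsMulCommutative (↥K ⧸ center ↥K) := fun hcm => by
    refine Components.quasisimple_not_solvable hK.2 ?_
    haveI : Group.IsSolvable (↥K ⧸ center ↥K) := Group.isSolvable_of_comm fun a b => hcm.is_comm.comm a b
    haveI : Group.IsSolvable ↥(center ↥K) := Group.isSolvable_of_comm fun a b => Subtype.ext ((mem_center_iff.1 b.2) a)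
    exact Group.isSolvable_of_ker_le_range (center ↥K).subtype π
      (le_of_eq ((QuotientGroup.ker_mk' _).trans (range_subtype _).symm))
  have hev : 2 ∣ Nat.card (↥K ⧸ center ↥K) := by
    by_contra h
    haveI := S0205.result (G := ↥K ⧸ center ↥K) (Nat.not_even_iff_odd.1 (fun he => h (even_iff_two_dvd.1 he)))
    exact hnonab ⟨⟨fun a b => by
      rcases (inferInstance : (center (↥K ⧸ center ↥K)).Normal).eq_bot_or_eq_top with hc | hc
      · exfalso
        have hc2 : _root_.commutator (↥K ⧸ center ↥K) ≠ ⊤ :=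
          (Group.IsSolvable.commutator_lt_top_of_nontrivial _).ne
        rcases (Subgroup.commutator_normal (⊤ : Subgroup (↥K ⧸ center ↥K)) ⊤).eq_bot_or_eq_top with hb | hb
        · refine absurd hc ?_
          intro hc'
          have hz : a ∈ center (↥K ⧸ center ↥K) := mem_center_iff.2 fun g =>
            commutatorElement_eq_one_iff_mul_comm.1 (mem_bot.1 (hb ▸ commutator_mem_commutator (mem_top g) (mem_top a)))
          exact hnonab ⟨⟨fun a b => commutatorElement_eq_one_iff_mul_comm.1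
            (mem_bot.1 (hb ▸ commutator_mem_commutator (mem_top a) (mem_top b)))⟩⟩
        · exact hc2 hb
      · exact (mem_center_iff.1 (hc ▸ mem_top b : b ∈ center _) a)⟩⟩
  have hR2 : 2 ∣ Nat.card (Rb : Subgroup (↥K ⧸ center ↥K)) := by
    rw [← (Rb : Subgroup (↥K ⧸ center ↥K)).card_mul_index] at hev
    exact (Nat.prime_two.dvd_mul.1 hev).resolve_right Rb.not_dvd_index
  obtain ⟨τ, hτ⟩ := exists_prime_orderOf_dvd_card' 2 hR2
  rw [← Subgroup.orderOf_coe] at hτ
  obtain ⟨x, hxR, hxτ⟩ := τ.2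
  by_contra hcon
  push Not at hcon
  obtain ⟨N, hN, hodd, hcomm⟩ := Cfsg.Agent.S0215.result Rb (τ : ↥K ⧸ center ↥K) hτ τ.2 fun g hg => by
    obtain ⟨g', rfl⟩ := hπ g
    obtain ⟨y, hy, hye⟩ := hg
    have hmem : g' * x * g'⁻¹ ∈ (R : Subgroup ↥K) := by
      have hz : y⁻¹ * (g' * x * g'⁻¹) ∈ center ↥K := by
        rw [← QuotientGroup.eq_one_iff]
        show π (y⁻¹ * (g' * x * g'⁻¹)) = 1
        rw [map_mul, map_inv, hye, map_mul, map_mul, map_inv, hxτ, inv_mul_cancel]
      have h := mul_mem (show y ∈ (R : Subgroup ↥K) from hy) (hZR hz)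
      rwa [mul_inv_cancel_left] at h
    have hz := hcon x x.2 ((hR x).1 hxR) g' g'.2 ((hR _).1 hmem)
    have hz' : g' * x * g'⁻¹ * x⁻¹ ∈ center ↥K := mem_center_iff.2 fun k => Subtype.ext
      (mem_centralizer_iff.1 hz k k.2)
    rw [← hxτ, ← map_inv, ← map_mul, ← map_mul]
    refine mul_inv_eq_one.1 ?_
    rw [← map_inv, ← map_mul]
    exact (QuotientGroup.eq_one_iff _).2 hz'
  rcases hN.eq_bot_or_eq_top with hb | hb
  · have hc : (τ : ↥K ⧸ center ↥K) ∈ center (↥K ⧸ center ↥K) := mem_center_iff.2 fun g => by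
      have := hcomm g
      rw [hb, mem_bot] at this
      exact (commutatorElement_eq_one_iff_mul_comm.1 this).symm
    rcases (inferInstance : (center (↥K ⧸ center ↥K)).Normal).eq_bot_or_eq_top with h | h
    · rw [h, mem_bot] at hc
      rw [hc, orderOf_one] at hτ
      exact absurd hτ (by norm_num)
    · exact hnonab ⟨⟨fun a b => mem_center_iff.1 (h ▸ mem_top b : b ∈ center _) a⟩⟩
  · rw [hb, card_top] at hodd
    exact (Nat.not_even_iff_odd.2 hodd) (even_iff_two_dvd.2 hev)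

/-- `A` normalises every component. -/
theorem le_normalizer_component (hK : Cfsg.IsComponent K) : A ≤ normalizer (K : Set X) := by
  intro a ha
  by_contra haK
  obtain ⟨x, hxK, hxT, g, hg, hgT, hne⟩ := hC.not_isolated hK
  have hai := hC.inv_eq ha
  set K' := K.map (MulAut.conj a).toMonoidHom with hK'
  have hne' : K ≠ K' := fun e => haK (mem_normalizer_iff_map_conj_eq.2 e.symm)
  have hc : ∀ y ∈ K, ∀ z ∈ K, y * (a * z * a⁻¹) = (a * z * a⁻¹) * y := fun y hy z hz =>
    mem_centralizer_iff.1 (commutator_eq_bot_iff_le_centralizer.1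
      (Components.components_commute (Components.component_conj hK a) hK hne'.symm)
      (show a * z * a⁻¹ ∈ K' from ⟨z, hz, rfl⟩)) y hy
  have hw : ∀ t ∈ K, t ∈ (T : Subgroup X) → t * (a * t * a⁻¹)⁻¹ ∈ A := fun t _ ht => by
    convert hC.comm_mem ht ha using 1
    group
  have hax : ∀ v ∈ A, a * v * a⁻¹ = v := fun v hv => by rw [hC.comm ha hv, mul_inv_cancel_right]
  set x' := g * x * g⁻¹ with hx'
  have hx'K : x' ∈ K := mul_mem (mul_mem hg hxK) (inv_mem hg)
  set y := a * x * a⁻¹ with hy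
  have hwA : x * y⁻¹ ∈ A := hw x hxK hxT
  have hxy : x * y = y * x := hc x hxK x hxK
  -- the square of `x` is central
  have hx2 : x * x = y * y := by
    have e1 : x * y⁻¹ * (x * y⁻¹) = 1 := hC.sq hwA
    have e2 : x * y⁻¹ = y⁻¹ * x := (Commute.inv_right (show Commute x y from hxy)).eq
    rw [mul_assoc x, ← mul_assoc y⁻¹, ← e2, ← mul_assoc, ← mul_assoc, mul_assoc _ y⁻¹, ← mul_inv_rev, mul_inv_eq_one] at e1
    exact e1
  -- moving `x` by `g` fixes `y`
  have hgy : g * y * g⁻¹ = y := by rw [hc g hg x hxK, mul_inv_cancel_right]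
  have hyT : y ∈ (T : Subgroup X) := mul_mem (mul_mem (hC.le ha) hxT) (inv_mem (hC.le ha))
  have hmem : g * (x * y⁻¹) * g⁻¹ ∈ A := hC.conj_mem hwA (by
    rw [show g * (x * y⁻¹) * g⁻¹ = (g * x * g⁻¹) * (g * y * g⁻¹)⁻¹ by group, hgy]
    exact mul_mem hgT (inv_mem hyT))
  rw [show g * (x * y⁻¹) * g⁻¹ = (g * x * g⁻¹) * (g * y * g⁻¹)⁻¹ by group, hgy, ← hx'] at hmem
  have e3 := hax _ hmem
  set y' := a * x' * a⁻¹ with hy'
  have e4 : a * (x' * y⁻¹) * a⁻¹ = y' * x⁻¹ := by
    rw [hy', hy]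
    calc a * (x' * (a * x * a⁻¹)⁻¹) * a⁻¹ = a * x' * a⁻¹ * ((a * a) * x⁻¹ * (a * a)⁻¹) := by group
      _ = _ := by rw [hC.sq ha]; group
  rw [e4] at e3
  have e5 : y' * y = x' * x := by
    have h1 : x⁻¹ * y = y * x⁻¹ := hc x⁻¹ (inv_mem hxK) x hxK
    have h2 : y' * x⁻¹ * y * x = x' * y⁻¹ * y * x := by rw [e3]
    rw [inv_mul_cancel_right, mul_assoc y', h1, ← mul_assoc, inv_mul_cancel_right] at h2
    exact h2
  have hcen : ∀ k ∈ K, ∀ v ∈ K, (∃ v' ∈ K, v = a * v' * a⁻¹) → k * v = v * k := by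
    rintro k hk v hv ⟨v', hv', rfl⟩
    exact hc k hk v' hv'
  have hz1 : x' * x ∈ centralizer (K : Set X) := mem_centralizer_iff.2 fun k hk => by
    refine hcen k hk _ (mul_mem hx'K hxK) ⟨x' * x, mul_mem hx'K hxK, ?_⟩
    conv_lhs => rw [← e5]
    rw [hy', hy]; group
  have hz2 : x * x ∈ centralizer (K : Set X) := mem_centralizer_iff.2 fun k hk => by
    refine hcen k hk _ (mul_mem hxK hxK) ⟨x * x, mul_mem hxK hxK, ?_⟩
    conv_lhs => rw [hx2]
    rw [hy]; group
  refine hne ?_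
  have := mul_mem hz1 (inv_mem hz2)
  rwa [show x' * x * (x * x)⁻¹ = x' * x⁻¹ by group] at this

/-- A component not centralised by `A` contains an element of `A` outside its centre. -/
theorem exists_mem_noncentral (hK : Cfsg.IsComponent K) (hmove : ¬ A ≤ centralizer (K : Set X)) :
    ∃ x ∈ A ⊓ K, x ∉ centralizer (K : Set X) := by
  haveI : Fact (Nat.Prime 2) := ⟨Nat.prime_two⟩
  by_contra hcon
  push Not at hcon
  obtain ⟨a, ha, haC⟩ := SetLike.not_le_iff_exists.1 hmove
  have haK := hC.le_normalizer_component hK ha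
  set M := K ⊔ zpowers a with hM
  have hMK : M ≤ normalizer (K : Set X) := sup_le le_normalizer (zpowers_le.2 haK)
  have haM : a ∈ M := mem_sup_right (mem_zpowers a)
  have hKM : K ≤ M := le_sup_left
  set Z := K ⊓ centralizer (K : Set X) with hZ
  haveI hZn : (Z.subgroupOf M).Normal := by
    refine (normal_subgroupOf_iff_le_normalizer (inf_le_left.trans hKM)).2 (hMK.trans ?_)
    exact (_root_.le_inf le_rfl (LELarge.normalizer_le_normalizer_centralizer K)).trans inf_normalizer_le_normalizer_inf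
  -- a Sylow subgroup of `M` inside `T`
  have hp : IsPGroup 2 ↥(((T : Subgroup X) ⊓ M).subgroupOf M) :=
    (T.2.to_le inf_le_left).comap_of_injective M.subtype M.subtype_injective
  obtain ⟨P, hP⟩ := hp.exists_le_sylow
  obtain ⟨RK, hRK⟩ := hC.exists_sylow_component hK
  obtain ⟨hZR, -⟩ := hC.center_le hK RK
  have hPT : ∀ v ∈ (P : Subgroup ↥M), (v : X) ∈ (T : Subgroup X) := by
    intro v hv
    have haP : (⟨a, haM⟩ : ↥M) ∈ (P : Subgroup ↥M) := hP ⟨hC.le ha, haM⟩
    obtain ⟨k, hk, s, hs, he⟩ := (SolvBasic.mem_sup_iff_of_le_normalizer (zpowers_le.2 haK)).1 (hM ▸ v.2 : (v : X) ∈ K ⊔ zpowers a)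
    have hsP : (⟨s, mem_sup_right hs⟩ : ↥M) ∈ (P : Subgroup ↥M) := by
      obtain ⟨i, rfl⟩ := mem_zpowers_iff.1 hs
      exact zpow_mem haP i
    have hkP : (⟨k, hKM hk⟩ : ↥M) ∈ (P : Subgroup ↥M) := by
      have := mul_mem hv (inv_mem hsP)
      rwa [show v * (⟨s, mem_sup_right hs⟩ : ↥M)⁻¹ = ⟨k, hKM hk⟩ from Subtype.ext (by
        show (v : X) * s⁻¹ = k
        rw [he, mul_inv_cancel_right])] at this
    have hle : (RK : Subgroup ↥K) ≤ (P : Subgroup ↥M).comap (Subgroup.inclusion hKM) := fun y hy =>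
      hP ⟨(hRK y).1 hy, hKM y.2⟩
    have hkR : (⟨k, hk⟩ : ↥K) ∈ (RK : Subgroup ↥K) := by
      rw [← RK.is_maximal' (P.2.comap_of_injective _ (Subgroup.inclusion_injective hKM)) hle]
      exact hkP
    rw [he]
    exact mul_mem ((hRK _).1 hkR) (zpowers_le.2 (hC.le ha) hs)
  let π := QuotientGroup.mk' (Z.subgroupOf M)
  have hπ : Function.Surjective π := QuotientGroup.mk'_surjective _
  set ab := π ⟨a, haM⟩ with hab
  have hab2 : orderOf ab = 2 := by
    refine orderOf_eq_prime ?_ fun e => haC ?_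
    · rw [hab, ← map_pow]
      convert map_one π using 2
      exact Subtype.ext (by simpa using hC.ea.2 a ha)
    · exact (mem_inf.1 (show (a : X) ∈ Z from (QuotientGroup.eq_one_iff (⟨a, haM⟩ : ↥M)).1 e)).2
  have hZT : Z ≤ (T : Subgroup X) := fun z hz =>
    (hRK ⟨z, hz.1⟩).1 (hZR (mem_center_iff.2 fun k => Subtype.ext (mem_centralizer_iff.1 hz.2 k k.2)))
  obtain ⟨N, hN, hodd, hcomm⟩ := Cfsg.Agent.S0215.result (P.mapSurjective hπ) ab hab2
    ⟨_, hP ⟨hC.le ha, haM⟩, rfl⟩ fun g hg => by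
    obtain ⟨g', rfl⟩ := hπ g
    obtain ⟨y, hy, hye⟩ := hg
    have hz : (y⁻¹ * (g' * ⟨a, haM⟩ * g'⁻¹)) ∈ Z.subgroupOf M := by
      rw [← QuotientGroup.eq_one_iff]
      show π (y⁻¹ * (g' * ⟨a, haM⟩ * g'⁻¹)) = 1
      rw [map_mul, map_inv, hye, map_mul, map_mul, map_inv, ← hab, inv_mul_cancel]
    have hgT : (g' : X) * a * (g' : X)⁻¹ ∈ (T : Subgroup X) := by
      have := mul_mem (hPT y hy) (hZT hz)
      simp only [Subgroup.coe_subtype, Subgroup.coe_mul, Subgroup.coe_inv, mul_inv_cancel_left] at this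
      exact this
    have hd : a⁻¹ * ((g' : X) * a * (g' : X)⁻¹) ∈ A ⊓ K := by
      refine mem_inf.2 ⟨mul_mem (inv_mem ha) (hC.conj_mem ha hgT), ?_⟩
      obtain ⟨k, hk, s, hs, he⟩ :=
        (SolvBasic.mem_sup_iff_of_le_normalizer (zpowers_le.2 haK)).1 (hM ▸ g'.2 : (g' : X) ∈ K ⊔ zpowers a)
      obtain ⟨i, rfl⟩ := mem_zpowers_iff.1 hs
      rw [he, show a⁻¹ * (k * a ^ i * a * (k * a ^ i)⁻¹) = (a⁻¹ * k * a⁻¹⁻¹) * k⁻¹ by group]
      exact mul_mem ((mem_normalizer_iff.1 (inv_mem haK) k).1 hk) (inv_mem hk)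
    have hdZ : a⁻¹ * ((g' : X) * a * (g' : X)⁻¹) ∈ Z := mem_inf.2 ⟨(mem_inf.1 hd).2, hcon _ hd⟩
    rw [hab, ← map_inv, ← map_mul, ← map_mul]
    refine (QuotientGroup.eq.2 ?_).symm
    exact hdZ
  -- the elements of `K` in the preimage of `N`
  set J := (N.comap π).comap (Subgroup.inclusion hKM) with hJ
  haveI : J.Normal := (hN.comap π).comap _
  rcases Components.quasisimple_normal hK.2 J with htop | hcen
  · obtain ⟨x, hxK, hxT, g, hg, hgT, hne⟩ := hC.not_isolated hK
    have hyT : g * x * g⁻¹ * x⁻¹ ∈ (T : Subgroup X) := mul_mem hgT (inv_mem hxT)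
    have hyK : g * x * g⁻¹ * x⁻¹ ∈ K := mul_mem (mul_mem (mul_mem hg hxK) (inv_mem hg)) (inv_mem hxK)
    have hyN : π ⟨_, hKM hyK⟩ ∈ N := show (⟨_, hyK⟩ : ↥K) ∈ J from htop ▸ mem_top _
    have h1 : π ⟨_, hKM hyK⟩ = 1 := by
      have h2 : IsPGroup 2 ↥(N ⊓ (P.mapSurjective hπ : Subgroup _)) := (P.mapSurjective hπ).2.to_le inf_le_right
      obtain ⟨k, hk⟩ := h2 ⟨_, hyN, ⟨_, hP ⟨hyT, hKM hyK⟩, rfl⟩⟩
      have ho := (hodd.of_dvd_nat (Subgroup.orderOf_dvd_natCard _ hyN))
      have hk' : (π ⟨_, hKM hyK⟩) ^ 2 ^ k = 1 := congrArg Subtype.val hk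
      obtain ⟨j, -, hj⟩ := (Nat.dvd_prime_pow Nat.prime_two).1 (orderOf_dvd_of_pow_eq_one hk')
      rcases j with _ | j
      · exact orderOf_eq_one_iff.1 (by rw [hj, pow_zero])
      · exact absurd (ho.of_dvd_nat (dvd_refl _)) (Nat.not_odd_iff_even.2 (by rw [hj, pow_succ]; exact even_two.mul_left _))
    exact hne (mem_inf.1 (show g * x * g⁻¹ * x⁻¹ ∈ Z from
      (QuotientGroup.eq_one_iff (⟨_, hKM hyK⟩ : ↥M)).1 h1)).2
  · refine haC (centralizes_of_mod_center hK.2 fun k hk => ?_)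
    have hk' : a * k * a⁻¹ * k⁻¹ ∈ K := mul_mem ((mem_normalizer_iff.1 haK k).1 hk) (inv_mem hk)
    have hJm : (⟨_, hk'⟩ : ↥K) ∈ J := by
      show π ⟨a * k * a⁻¹ * k⁻¹, hKM hk'⟩ ∈ N
      have := hcomm (π ⟨k, hKM hk⟩)
      rw [hab, ← map_inv, ← map_inv, ← map_mul, ← map_mul, ← map_mul] at this
      exact this
    exact ⟨hk', mem_centralizer_iff.2 fun v hv =>
      congrArg Subtype.val (mem_center_iff.1 (hcen hJm) ⟨v, hv⟩)⟩

end Cl

end Cfsg.Agent.Gold1169.Loc2
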